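import Groth.Agent.RZExt.Strict

/-!
# Admissible blow-ups turning a separated morphism into an open immersion
-/

set_option autoImplicit false
set_option linter.style.haveILetI false
set_option backward.isDefEq.respectTransparency false
set_option backward.isDefEq.respectTransparency.types false

universe u

open CategoryTheory CategoryTheory.Limits AlgebraicGeometry TopologicalSpace Topology

noncomputable section

namespace Groth.Agent.RZExt

/-- Being locally finitely generated can be checked on an affine cover. -/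
theorem isFiniteType_of_cover {X : Scheme.{u}} {J : X.IdealSheafData}
    (h : ∀ x : X, ∃ U : X.affineOpens, x ∈ U.1 ∧ (J.ideal U).FG) : BlowUp.IsFiniteTypeIdeal J := by
  choose U hU hfg using h
  intro V
  refine of_affine_open_cover (P := fun W : X.affineOpens => (J.ideal W).FG) U
    (top_le_iff.1 fun x _ => Opens.mem_iSup.2 ⟨x, hU x⟩) V (fun W g hW => ?_) (fun W t ht hW => ?_) hfg
  · rw [← J.map_ideal_basicOpen W g]
    exact hW.map _
  · refine Ideal.fg_of_localizationSpan (t : Set Γ(X, W.1)) ht fun g => ?_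
    haveI := W.2.isLocalization_basicOpen g.1
    let e := IsLocalization.algEquiv (Submonoid.powers g.1) Γ(X, X.basicOpen g.1) (Localization.Away g.1)
    have h1 := (hW ⟨g.1, g.2⟩).map e.toRingEquiv.toRingHom
    rw [← J.map_ideal_basicOpen W g.1, Ideal.map_map] at h1
    rw [show algebraMap Γ(X, W.1) (Localization.Away g.1) =
      e.toRingEquiv.toRingHom.comp (X.presheaf.map (homOfLE (X.basicOpen_le g.1)).op).hom from
        RingHom.ext fun c => (e.commutes c).symm]
    exact h1

theorem isFiniteType_comap {X Y : Scheme.{u}} (f : X ⟶ Y) {J : Y.IdealSheafData}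
    (hJ : BlowUp.IsFiniteTypeIdeal J) : BlowUp.IsFiniteTypeIdeal (J.comap f) := by
  refine isFiniteType_of_cover fun x => ?_
  obtain ⟨U, hU, hxU, -⟩ := exists_isAffineOpen_mem_and_subset (X := Y) (U := ⊤) (x := f x) trivial
  obtain ⟨V, hV, hxV, hVU⟩ := exists_isAffineOpen_mem_and_subset (X := X) (U := f ⁻¹ᵁ U) (x := x) hxU
  exact ⟨⟨V, hV⟩, hxV, by rw [FpqcDescent.ideal_comap_appLE J f ⟨U, hU⟩ ⟨V, hV⟩ hVU]; exact (hJ _).map _⟩

/-- The complement of an effective Cartier divisor is dense. -/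
theorem dense_awayFrom {X : Scheme.{u}} {E : X.IdealSheafData} (hE : BlowUp.IsEffCartierIdeal E) :
    Dense (E.support : Set X)ᶜ := by
  rw [dense_iff_inter_open]
  rintro O hO ⟨x, hx⟩
  by_contra hcon
  obtain ⟨W, hxW, hWO, g, hg, hge⟩ := BlowUpLib.exists_small_generator hE (show x ∈ (⟨O, hO⟩ : X.Opens) from hx)
  have hempty : X.basicOpen g = ⊥ := le_bot_iff.1 fun y hy => hcon
    ⟨y, hWO (X.basicOpen_le g hy), (BlowUpLib.mem_basicOpen_of_notMem_support hge (X.basicOpen_le g hy)).2 hy⟩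
  obtain ⟨N, hN⟩ := exists_pow_dvd W.2 (f := g) (g := (0 : Γ(X, W.1))) (by rw [hempty]; exact bot_le)
  have h1 : (1 : Γ(X, W.1)) = 0 :=
    (mem_nonZeroDivisors_iff_right.1 (pow_mem hg N) 1 (by rw [one_mul]; exact zero_dvd_iff.1 hN))
  have h2 : x ∈ X.basicOpen (1 : Γ(X, W.1)) := by rw [X.basicOpen_of_isUnit isUnit_one]; exact hxW
  rw [h1, Scheme.basicOpen_zero] at h2
  exact h2

/-- Transport of a blow-up along an isomorphism of the source. -/
theorem isBlowUp_iso_comp {X X' X'' : Scheme.{u}} {b : X' ⟶ X} {J : X.IdealSheafData} (hb : BlowUp.IsBlowUp b J)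
    (e : X'' ⟶ X') [IsIso e] : BlowUp.IsBlowUp (e ≫ b) J := by
  refine ⟨?_, fun Y g hg => ?_⟩
  · rw [Scheme.IdealSheafData.comap_comp]
    exact BlowUpLib.cartier_comap_flat hb.1 e
  · obtain ⟨k, hk, huniq⟩ := hb.2 Y g hg
    refine ⟨k ≫ inv e, by simpa using hk, fun l hl => ?_⟩
    show l = k ≫ inv e
    rw [← huniq (l ≫ e) (show (l ≫ e) ≫ b = g by rw [Category.assoc]; exact hl), Category.assoc, IsIso.hom_inv_id,
      Category.comp_id]

variable {S X : Scheme.{u}} {U : S.Opens} {f : X ⟶ S} {s : (U : Scheme.{u}) ⟶ X}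

/-- The extension is the blow-up of the source in the inverse image of the centre. -/
theorem Piece.isBlowUp_hom [IsSeparated f] [IsIso (f ∣_ U)] (hs : s ≫ f = U.ι) {I : Centre U} (Q : Piece f s I)
    (hQ : ∀ z ∈ closure (overU f I : Set (pullback f I.b : Scheme.{u})), pullback.snd f I.b z ∈ Q.nhd) :
    BlowUp.IsBlowUp Q.hom (I.ideal.comap f) := by
  refine ⟨?_, fun Y g hg => ?_⟩
  · rw [← Scheme.IdealSheafData.comap_comp, Q.over', Scheme.IdealSheafData.comap_comp]
    exact BlowUpLib.cartier_comap_flat I.isBlowUp.1 _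
  rw [← Scheme.IdealSheafData.comap_comp] at hg
  obtain ⟨l, hl, hluniq⟩ := I.isBlowUp.2 Y (g ≫ f) hg
  let m := pullback.lift g l hl.symm
  have hrange : Set.range l ⊆ Set.range Q.nhd.ι := by
    rintro _ ⟨y, rfl⟩
    rw [Scheme.Opens.range_ι]
    have h1 : m y ∈ closure (overU f I : Set (pullback f I.b : Scheme.{u})) :=
      map_mem_closure m.continuous (dense_awayFrom hg y) fun z hz => by
        show I.b (pullback.snd f I.b (m z)) ∈ U
        rw [← Scheme.Hom.comp_apply, ← Scheme.Hom.comp_apply, pullback.lift_snd_assoc, hl]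
        rw [Scheme.IdealSheafData.support_comap, Closeds.coe_preimage, I.supp] at hz
        exact not_not.1 hz
    have h2 := hQ _ h1
    rw [← Scheme.Hom.comp_apply, pullback.lift_snd] at h2
    exact h2
  refine ⟨IsOpenImmersion.lift Q.nhd.ι l hrange, ?_, fun k hk => ?_⟩
  · show IsOpenImmersion.lift Q.nhd.ι l hrange ≫ Q.hom = g
    set k := IsOpenImmersion.lift Q.nhd.ι l hrange
    have hk : k ≫ Q.nhd.ι = l := IsOpenImmersion.lift_fac _ _ _
    refine hom_ext_of_cartier (f := f) _ hg (by rw [Category.assoc, Q.over', reassoc_of% hk, hl]) ?_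
    set O := HTop.awayFrom (I.ideal.comap (g ≫ f))
    have hr : Set.range (O.ι ≫ g ≫ f) ⊆ Set.range U.ι := by
      rintro _ ⟨z, rfl⟩
      rw [Scheme.Opens.range_ι, Scheme.Hom.comp_apply]
      by_contra hz
      refine z.2 ?_
      rw [Scheme.IdealSheafData.support_comap, Closeds.coe_preimage, I.supp]
      exact hz
    let r := IsOpenImmersion.lift U.ι (O.ι ≫ g ≫ f) hr
    rw [← Category.assoc, Q.compat _ (O.ι ≫ k) r (by
        rw [IsOpenImmersion.lift_fac, Category.assoc, reassoc_of% hk, hl]),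
      eq_comp_section hs (O.ι ≫ g) r (by rw [IsOpenImmersion.lift_fac, Category.assoc])]
  · rw [← cancel_mono Q.nhd.ι, IsOpenImmersion.lift_fac]
    refine hluniq _ ?_
    show (k ≫ Q.nhd.ι) ≫ I.b = g ≫ f
    rw [← hk, Category.assoc, Category.assoc, ← Q.over']

/-- The part over `U` lies in such a domain. -/
theorem Piece.preimage_le (hs : s ≫ f = U.ι) {I : Centre U} (Q : Piece f s I)
    (hQ : ∀ z ∈ closure (overU f I : Set (pullback f I.b : Scheme.{u})), pullback.snd f I.b z ∈ Q.nhd) :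
    I.b ⁻¹ᵁ U ≤ Q.nhd := fun z hz => by
  let σ := pullback.lift ((Piece.ofU hs I).hom) (I.b ⁻¹ᵁ U).ι (Piece.ofU hs I).over'
  have h1 : pullback.snd f I.b (σ ⟨z, hz⟩) = z := by
    rw [← Scheme.Hom.comp_apply, pullback.lift_snd]
    rfl
  refine h1 ▸ hQ _ (subset_closure ?_)
  show I.b (pullback.snd f I.b (σ ⟨z, hz⟩)) ∈ U
  rw [h1]
  exact hz

/-- For a proper morphism the domain is everything. -/
theorem Piece.nhd_eq_top [IsProper f] (hs : s ≫ f = U.ι) {I : Centre U} (Q : Piece f s I)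
    (hQ : ∀ z ∈ closure (overU f I : Set (pullback f I.b : Scheme.{u})), pullback.snd f I.b z ∈ Q.nhd) :
    Q.nhd = ⊤ := by
  refine top_le_iff.1 fun z _ => ?_
  have hd : Dense (I.b ⁻¹ᵁ U : Set I.T) := by
    have h := dense_awayFrom I.isBlowUp.1
    rw [Scheme.IdealSheafData.support_comap, Closeds.coe_preimage, I.supp, Set.preimage_compl, compl_compl] at h
    exact h
  have hcl : IsClosed (pullback.snd f I.b '' closure (overU f I : Set (pullback f I.b : Scheme.{u}))) :=
    (pullback.snd f I.b).isClosedMap _ isClosed_closure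
  have hsub : (I.b ⁻¹ᵁ U : Set I.T) ⊆ pullback.snd f I.b '' closure (overU f I : Set (pullback f I.b : Scheme.{u})) := by
    intro y hy
    let σ := pullback.lift ((Piece.ofU hs I).hom) (I.b ⁻¹ᵁ U).ι (Piece.ofU hs I).over'
    have h1 : pullback.snd f I.b (σ ⟨y, hy⟩) = y := by
      rw [← Scheme.Hom.comp_apply, pullback.lift_snd]
      rfl
    refine ⟨σ ⟨y, hy⟩, subset_closure ?_, h1⟩
    show I.b (pullback.snd f I.b (σ ⟨y, hy⟩)) ∈ U
    rw [h1]
    exact hy
  obtain ⟨p, hp, rfl⟩ := (closure_minimal hsub hcl) (hd z)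
  exact hQ p hp

/-- A separated morphism of finite type which is an isomorphism over a quasi-compact open becomes an open
immersion after an admissible blow-up. -/
theorem exists_openImmersion [CompactSpace S] [QuasiSeparatedSpace S] (hU : IsCompact (U : Set S))
    (f : X ⟶ S) [QuasiCompact f] [IsSeparated f] [LocallyOfFiniteType f] [IsIso (f ∣_ U)] :
    ∃ (I : Centre U) (D : I.T.Opens) (h : D.toScheme ⟶ X), h ≫ f = D.ι ≫ I.b ∧ I.b ⁻¹ᵁ U ≤ D ∧
      BlowUp.IsBlowUp h (I.ideal.comap f) ∧ BlowUp.IsAdmissibleFor (f ⁻¹ᵁ U) (I.ideal.comap f) ∧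
      (IsProper f → D = ⊤) := by
  haveI := nonempty_centre U hU
  have hs : (inv (f ∣_ U) ≫ (f ⁻¹ᵁ U).ι) ≫ f = U.ι := by
    rw [Category.assoc, ← morphismRestrict_ι, IsIso.inv_hom_id_assoc]
  obtain ⟨I, Q, hQ⟩ := exists_closure_over_piece (f := f) hU hs
  refine ⟨I, Q.nhd, Q.hom, Q.over', Q.preimage_le hs hQ, Q.isBlowUp_hom hs hQ, ⟨isFiniteType_comap f I.ft, ?_⟩,
    fun _ => Q.nhd_eq_top hs hQ⟩
  rw [Scheme.IdealSheafData.support_comap, Closeds.coe_preimage, I.supp]
  exact Set.disjoint_left.2 fun z hz hz' => hz hz'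

end Groth.Agent.RZExt
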