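import Groth.Agent.RZExt.Descend

/-!
# Extension of admissible centres from a quasi-compact open
-/

set_option autoImplicit false
set_option linter.style.haveILetI false
set_option backward.isDefEq.respectTransparency false

universe u

open CategoryTheory CategoryTheory.Limits AlgebraicGeometry TopologicalSpace Topology

noncomputable section

namespace Groth.Agent.RZExt

/-- An ideal without zeros on an affine open is the unit ideal there. -/
theorem ideal_eq_top {X : Scheme.{u}} (I : X.IdealSheafData) (W : X.affineOpens)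
    (h : ∀ x ∈ W.1, x ∉ I.support) : I.ideal W = ⊤ := by
  by_contra hne
  obtain ⟨m, hm, hle⟩ := Ideal.exists_le_maximal _ hne
  let p : PrimeSpectrum Γ(X, W.1) := ⟨m, hm.isPrime⟩
  have hp : W.2.fromSpec p ∈ W.1 := W.2.range_fromSpec.subset ⟨p, rfl⟩
  refine h _ hp ?_
  rw [Scheme.IdealSheafData.mem_support_iff_of_mem (U := W) hp, Scheme.mem_zeroLocus_iff]
  intro c hc hcx
  have h1 : p ∈ W.2.fromSpec ⁻¹ᵁ X.basicOpen c := hcx
  rw [IsAffineOpen.fromSpec_preimage_basicOpen, PrimeSpectrum.mem_basicOpen] at h1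
  exact h1 (hle hc)

/-- An admissible centre on a quasi-compact open extends. -/
theorem exists_extend_centre {X : Scheme.{u}} [CompactSpace X] [QuasiSeparatedSpace X] (U V : X.Opens)
    (hU : IsCompact (U : Set X)) (hV : IsCompact (V : Set X)) (𝓘 : V.toScheme.IdealSheafData)
    (hft : BlowUp.IsFiniteTypeIdeal 𝓘) (hd : Disjoint (𝓘.support : Set V.toScheme) (V.ι ⁻¹ᵁ U : Set V.toScheme)) :
    ∃ 𝓙 : X.IdealSheafData, BlowUp.IsFiniteTypeIdeal 𝓙 ∧ Disjoint (𝓙.support : Set X) (U : Set X) ∧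
      𝓙.comap V.ι = 𝓘 := by
  classical
  haveI : CompactSpace V.toScheme := isCompact_iff_compactSpace.1 hV
  haveI : QuasiCompact V.ι := quasiCompact_of_compactSpace V.ι
  let P := 𝓘.map V.ι
  have hVloc : ∀ x : V.toScheme, ∃ (W : X.affineOpens) (A : V.toScheme.affineOpens) (hA : A.1 ≤ V.ι ⁻¹ᵁ W.1)
      (L : X.IdealSheafData), x ∈ A.1 ∧ L ≤ P ∧ BlowUp.IsFiniteTypeIdeal L ∧
      𝓘.ideal A ≤ (L.ideal W).map (V.ι.appLE W.1 A.1 hA).hom := by
    intro x
    obtain ⟨A, hA, hxA, -⟩ := exists_isAffineOpen_mem_and_subset (X := V.toScheme) (U := ⊤) (x := x) trivial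
    let W : X.affineOpens := ⟨V.ι ''ᵁ A, hA.image_of_isOpenImmersion V.ι⟩
    have hAW : A ≤ V.ι ⁻¹ᵁ W.1 := (V.ι.preimage_image_eq A).ge
    have hsurj : Function.Surjective (V.ι.appLE W.1 A hAW).hom := by
      intro c
      refine ⟨(V.ι.appIso A).inv c, ?_⟩
      rw [← CommRingCat.comp_apply, Scheme.Hom.appIso_inv_appLE]
      exact congr($(V.toScheme.presheaf.map_id _) c)
    obtain ⟨S, hS⟩ := hft ⟨A, hA⟩
    choose c hc using fun r => hsurj r
    have hcP : ∀ r : S, c r.1 ∈ P.ideal W := fun r => by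
      refine mem_map_ideal _ W _ fun z hz => ⟨⟨A, hA⟩, hAW, (V.ι.preimage_image_eq A).le hz, ?_⟩
      rw [hc]
      exact hS ▸ Ideal.subset_span r.2
    choose L hL hLft hcL using fun r : S => LimClosed.exists_ft_le P W (c r.1) (hcP r)
    refine ⟨W, ⟨A, hA⟩, hAW, Finset.univ.sup L, hxA, Finset.sup_le fun r _ => hL r, Finset.sup_induction
      (fun T => by rw [Scheme.IdealSheafData.ideal_bot]; exact Submodule.fg_bot)
      (fun M hM M' hM' T => by
        rw [Scheme.IdealSheafData.ideal_sup, Pi.sup_apply]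
        exact Submodule.FG.sup (hM T) (hM' T)) (fun r _ => hLft r), ?_⟩
    rw [← hS, Ideal.span_le]
    intro r hr
    rw [← hc r]
    exact Ideal.mem_map_of_mem _ ((Finset.le_sup (f := L) (Finset.mem_univ (⟨r, hr⟩ : {x // x ∈ S})) :
      L (⟨r, hr⟩ : {x // x ∈ S}) ≤ Finset.univ.sup L) W (hcL (⟨r, hr⟩ : {x // x ∈ S})))
  have hUloc : ∀ x : U, ∃ (W : X.affineOpens) (L : X.IdealSheafData), (x : X) ∈ W.1 ∧ L ≤ P ∧
      BlowUp.IsFiniteTypeIdeal L ∧ (1 : Γ(X, W.1)) ∈ L.ideal W := by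
    intro x
    obtain ⟨W, hW, hxW, hWU⟩ := exists_isAffineOpen_mem_and_subset (X := X) (U := U) x.2
    have h1 : (1 : Γ(X, W)) ∈ P.ideal ⟨W, hW⟩ := by
      refine mem_map_ideal _ (⟨W, hW⟩ : X.affineOpens) _ fun z hz => ?_
      obtain ⟨G, hG, hzG, hGW⟩ := exists_isAffineOpen_mem_and_subset (X := V.toScheme) (U := V.ι ⁻¹ᵁ W) (x := z) hz
      refine ⟨⟨G, hG⟩, hGW, hzG, ?_⟩
      rw [ideal_eq_top 𝓘 ⟨G, hG⟩ fun y hy hy' => Set.disjoint_left.1 hd hy' (hWU (hGW hy))]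
      exact Submodule.mem_top
    obtain ⟨L, hL, hLft, h1L⟩ := LimClosed.exists_ft_le P ⟨W, hW⟩ 1 h1
    exact ⟨⟨W, hW⟩, L, hxW, hL, hLft, h1L⟩
  choose W A hA L hxA hLP hLft hgen using hVloc
  choose W' L' hxW' hLP' hLft' hone using hUloc
  obtain ⟨t, ht⟩ := isCompact_univ.elim_finite_subcover (fun x => ((A x).1 : Set V.toScheme)) (fun x => (A x).1.2)
    (fun x _ => Set.mem_iUnion.2 ⟨x, hxA x⟩)
  obtain ⟨t', ht'⟩ := hU.elim_finite_subcover (fun x => ((W' x).1 : Set X)) (fun x => (W' x).1.2)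
    (fun x hx => Set.mem_iUnion.2 ⟨⟨x, hx⟩, hxW' _⟩)
  let 𝓙 := t.sup L ⊔ t'.sup L'
  have hind : ∀ {ι : Type u} (t : Finset ι) (L : ι → X.IdealSheafData), (∀ i ∈ t, BlowUp.IsFiniteTypeIdeal (L i)) →
      BlowUp.IsFiniteTypeIdeal (t.sup L) := fun t L h => Finset.sup_induction
    (fun T => by rw [Scheme.IdealSheafData.ideal_bot]; exact Submodule.fg_bot)
    (fun M hM M' hM' T => by
      rw [Scheme.IdealSheafData.ideal_sup, Pi.sup_apply]
      exact Submodule.FG.sup (hM T) (hM' T)) h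
  refine ⟨𝓙, fun T => ?_, ?_, le_antisymm
    (Scheme.IdealSheafData.le_map_iff_comap_le.1 (sup_le (Finset.sup_le fun i _ => hLP i)
      (Finset.sup_le fun i _ => hLP' i))) ?_⟩
  · rw [Scheme.IdealSheafData.ideal_sup, Pi.sup_apply]
    exact Submodule.FG.sup (hind t L (fun i _ => hLft i) T) (hind t' L' (fun i _ => hLft' i) T)
  · refine Set.disjoint_left.2 fun z hz hzU => ?_
    obtain ⟨y, hy, hzy⟩ := Set.mem_iUnion₂.1 (ht' hzU)
    rw [SetLike.mem_coe, Scheme.IdealSheafData.mem_support_iff_of_mem (U := W' y) hzy,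
      Scheme.mem_zeroLocus_iff] at hz
    refine hz 1 ((((Finset.le_sup (f := L') hy).trans le_sup_right : L' y ≤ 𝓙)) (W' y) (hone y)) ?_
    rw [X.basicOpen_of_isUnit isUnit_one]
    exact hzy
  · intro T
    have hle : ∀ y ∈ t, L y ≤ 𝓙 := fun y hy => (Finset.le_sup (f := L) hy).trans le_sup_left
    refine ((Scheme.IdealSheafData.ext_of_iSup_eq_top (I := 𝓘) (J := 𝓘 ⊓ 𝓙.comap V.ι)
      (fun y : {y // y ∈ t} => A y.1) (top_le_iff.1 fun z _ => ?_) fun y => ?_).le.trans inf_le_right) T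
    · obtain ⟨y, hy, hzy⟩ := Set.mem_iUnion₂.1 (ht (Set.mem_univ z))
      exact Opens.mem_iSup.2 ⟨⟨y, hy⟩, hzy⟩
    · rw [Scheme.IdealSheafData.ideal_inf, Pi.inf_apply, left_eq_inf,
        FpqcDescent.ideal_comap_appLE 𝓙 V.ι (W y.1) (A y.1) (hA y.1)]
      exact (hgen y.1).trans (Ideal.map_mono (hle _ y.2 _))

end Groth.Agent.RZExt
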