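import Groth.Agent.RZExt.Graph
import Groth.Agent.RZExt.ExtendIdeal
import Groth.Agent.LimModel.Glue

/-!
# Gluing admissible blow-ups of two compactifying schemes along their common open
-/

set_option autoImplicit false
set_option linter.style.haveILetI false
set_option backward.isDefEq.respectTransparency false
set_option backward.isDefEq.respectTransparency.types false

universe u

open CategoryTheory CategoryTheory.Limits AlgebraicGeometry TopologicalSpace Topology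

noncomputable section

namespace Groth.Agent.RZExt

/-- The image of a morphism with open immersion as a projection is trivial over the image of that projection. -/
theorem image_proj {V P Y : Scheme.{u}} (γ : V ⟶ P) [QuasiCompact γ] (pr : P ⟶ Y) [IsSeparated pr] (j : V ⟶ Y)
    [IsOpenImmersion j] (hj : γ ≫ pr = j) :
    IsIso ((γ.imageι ≫ pr) ∣_ j.opensRange) ∧ IsOpenImmersion γ.toImage ∧
      Set.range γ.toImage = ((γ.imageι ≫ pr) ⁻¹ᵁ j.opensRange : Set γ.image) := by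
  subst hj
  let O := (γ ≫ pr).opensRange
  have htop : (γ ≫ pr) ⁻¹ᵁ O = ⊤ := top_le_iff.1 fun z _ => ⟨z, rfl⟩
  haveI : IsIso ((γ ≫ pr) ∣_ O) := by
    haveI : IsIso ((γ ≫ pr) ⁻¹ᵁ O).ι := by rw [htop, ← Scheme.topIso_hom]; infer_instance
    rw [show (γ ≫ pr) ∣_ O = ((γ ≫ pr) ⁻¹ᵁ O).ι ≫ (γ ≫ pr).isoOpensRange.hom by
      rw [← cancel_mono O.ι, morphismRestrict_ι, Category.assoc, Scheme.Hom.isoOpensRange_hom_ι]]
    infer_instance
  haveI : IsClosedImmersion (γ ∣_ (pr ⁻¹ᵁ O)) := by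
    haveI : IsClosedImmersion (γ ∣_ (pr ⁻¹ᵁ O) ≫ pr ∣_ O) := by
      rw [← morphismRestrict_comp]
      infer_instance
    exact IsClosedImmersion.of_comp (γ ∣_ (pr ⁻¹ᵁ O)) (pr ∣_ O)
  haveI := isIso_toImage_restrict γ (pr ⁻¹ᵁ O)
  let f := γ.imageι ≫ pr
  haveI : IsIso (γ.toImage ∣_ (f ⁻¹ᵁ O)) := ‹IsIso (γ.toImage ∣_ (γ.imageι ⁻¹ᵁ (pr ⁻¹ᵁ O)))›
  have h2 : γ.toImage ≫ f = γ ≫ pr := by
    show γ.toImage ≫ γ.imageι ≫ pr = _
    rw [Scheme.Hom.toImage_imageι_assoc]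
  have key : ∀ (k : V ⟶ Y), k = γ ≫ pr → IsIso (k ∣_ O) := by
    rintro _ rfl
    infer_instance
  haveI : IsIso (γ.toImage ∣_ (f ⁻¹ᵁ O) ≫ f ∣_ O) := morphismRestrict_comp γ.toImage f O ▸ key _ h2
  have hpre : γ.toImage ⁻¹ᵁ (f ⁻¹ᵁ O) = ⊤ := top_le_iff.1 fun z _ =>
    ⟨z, ((congrArg (fun k : V ⟶ Y => k z) h2).trans rfl).symm⟩
  haveI : IsIso (γ.toImage ⁻¹ᵁ (f ⁻¹ᵁ O)).ι := by rw [hpre, ← Scheme.topIso_hom]; infer_instance
  have he : γ.toImage = inv (γ.toImage ⁻¹ᵁ (f ⁻¹ᵁ O)).ι ≫ γ.toImage ∣_ (f ⁻¹ᵁ O) ≫ (f ⁻¹ᵁ O).ι := by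
    rw [morphismRestrict_ι, IsIso.inv_hom_id_assoc]
  refine ⟨IsIso.of_isIso_comp_left (γ.toImage ∣_ (f ⁻¹ᵁ O)) (f ∣_ O), by rw [he]; infer_instance, ?_⟩
  ext z
  constructor
  · rintro ⟨v, rfl⟩
    have : v ∈ γ.toImage ⁻¹ᵁ (f ⁻¹ᵁ O) := by rw [hpre]; trivial
    exact this
  · intro hz
    obtain ⟨v, hv⟩ := (γ.toImage ∣_ (f ⁻¹ᵁ O)).surjective ⟨z, hz⟩
    refine ⟨(γ.toImage ⁻¹ᵁ (f ⁻¹ᵁ O)).ι v, ?_⟩
    rw [← Scheme.Hom.comp_apply, ← morphismRestrict_ι, Scheme.Hom.comp_apply, hv]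
    rfl

/-- Two separated schemes glued along an open with closed graph form a separated scheme. -/
theorem isSeparated_pushout_desc {A U V S : Scheme.{u}} (f : A ⟶ U) (g : A ⟶ V) [IsOpenImmersion f] [IsOpenImmersion g]
    (qU : U ⟶ S) (qV : V ⟶ S) [IsSeparated qU] [IsSeparated qV] (h : f ≫ qU = g ≫ qV)
    (hcl : IsClosed (Set.range (pullback.lift f g h))) : IsSeparated (pushout.desc qU qV h) := by
  haveI := LimModel.isOpenImmersion_inl f g
  haveI := LimModel.isOpenImmersion_inr f g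
  set q := pushout.desc qU qV h
  let Δ := pullback.diagonal q
  refine ⟨@IsClosedImmersion.of_isPreimmersion _ _ Δ inferInstance ?_⟩
  rw [← isOpen_compl_iff, isOpen_iff_forall_mem_open]
  intro z hz
  have piece : ∀ {U' V' A' : Scheme.{u}} (i : U' ⟶ pushout f g) (k : V' ⟶ pushout f g) [IsOpenImmersion i]
      [IsOpenImmersion k] (qU' : U' ⟶ S) (qV' : V' ⟶ S) (hi : i ≫ q = qU') (hk : k ≫ q = qV')
      (α : A' ⟶ U') (β : A' ⟶ V') (hh : α ≫ qU' = β ≫ qV'), α ≫ i = β ≫ k →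
      (∀ u v, i u = k v → ∃ a, α a = u ∧ β a = v) → IsClosed (Set.range (pullback.lift α β hh)) →
      z ∈ Set.range (pullback.map qU' qV' q q i k (𝟙 S) (by simp [hi]) (by simp [hk])) →
      ∃ t ⊆ (Set.range Δ)ᶜ, IsOpen t ∧ z ∈ t := by
    intro U' V' A' i k _ _ qU' qV' hi hk α β hh hc hover hclosed hzr
    subst hi hk
    let m := pullback.map (i ≫ q) (k ≫ q) q q i k (𝟙 S) (by simp) (by simp)
    have hm : pullback.lift α β hh ≫ m = (α ≫ i) ≫ Δ := by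
      apply pullback.hom_ext <;> simp [m, Δ, hc]
    refine ⟨m '' (Set.range (pullback.lift α β hh))ᶜ, ?_, m.isOpenEmbedding.isOpenMap _ hclosed.isOpen_compl, ?_⟩
    · rintro _ ⟨w, hw, rfl⟩ ⟨p, hp⟩
      refine hw ?_
      have h1 : i (pullback.fst (i ≫ q) (k ≫ q) w) = p := by
        have := congrArg (pullback.fst q q) hp
        rw [← Scheme.Hom.comp_apply, ← Scheme.Hom.comp_apply, pullback.diagonal_fst, pullback.lift_fst,
          Scheme.Hom.comp_apply] at this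
        exact this.symm
      have h2 : k (pullback.snd (i ≫ q) (k ≫ q) w) = p := by
        have := congrArg (pullback.snd q q) hp
        rw [← Scheme.Hom.comp_apply, ← Scheme.Hom.comp_apply, pullback.diagonal_snd, pullback.lift_snd,
          Scheme.Hom.comp_apply] at this
        exact this.symm
      obtain ⟨a, ha, -⟩ := hover _ _ (h1.trans h2.symm)
      refine ⟨a, m.isOpenEmbedding.injective ?_⟩
      rw [← Scheme.Hom.comp_apply, hm, Scheme.Hom.comp_apply, Scheme.Hom.comp_apply, ha, h1, hp]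
    · obtain ⟨w, rfl⟩ := hzr
      refine ⟨w, ?_, rfl⟩
      rintro ⟨a, rfl⟩
      refine hz ⟨(α ≫ i) a, ?_⟩
      rw [← Scheme.Hom.comp_apply, ← hm, Scheme.Hom.comp_apply]
  have hl : pushout.inl f g ≫ q = qU := pushout.inl_desc _ _ _
  have hr : pushout.inr f g ≫ q = qV := pushout.inr_desc _ _ _
  have hflip : IsClosed (Set.range (pullback.lift g f h.symm)) := by
    have e : pullback.lift g f h.symm = pullback.lift f g h ≫ (pullbackSymmetry qU qV).hom := by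
      apply pullback.hom_ext <;> simp
    rw [e, Scheme.Hom.comp_base, TopCat.coe_comp, Set.range_comp]
    exact (pullbackSymmetry qU qV).hom.homeomorph.isClosedMap _ hcl
  have hrange : ∀ {U' V' : Scheme.{u}} (i : U' ⟶ pushout f g) (k : V' ⟶ pushout f g) (qU' : U' ⟶ S) (qV' : V' ⟶ S)
      (hi : i ≫ q = qU') (hk : k ≫ q = qV'), pullback.fst q q z ∈ Set.range i → pullback.snd q q z ∈ Set.range k →
      z ∈ Set.range (pullback.map qU' qV' q q i k (𝟙 S) (by simp [hi]) (by simp [hk])) := by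
    intro U' V' i k qU' qV' hi hk h1 h2
    rw [Scheme.Pullback.range_map]
    exact ⟨h1, h2⟩
  rcases (LimModel.inl_range_sup_inr_range f g).ge (Set.mem_univ (pullback.fst q q z)) with h1 | h1 <;>
    rcases (LimModel.inl_range_sup_inr_range f g).ge (Set.mem_univ (pullback.snd q q z)) with h2 | h2
  · exact piece (pushout.inl f g) (pushout.inl f g) qU qU hl hl (𝟙 U) (𝟙 U) rfl rfl
      (fun u v e => ⟨u, rfl, (pushout.inl f g).isOpenEmbedding.injective e⟩)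
      (pullback.diagonal qU).isClosedEmbedding.isClosed_range (hrange _ _ _ _ hl hl h1 h2)
  · exact piece (pushout.inl f g) (pushout.inr f g) qU qV hl hr f g h pushout.condition
      (fun u v e => LimModel.exists_of_inl_eq_inr f g e) hcl (hrange _ _ _ _ hl hr h1 h2)
  · exact piece (pushout.inr f g) (pushout.inl f g) qV qU hr hl g f h.symm pushout.condition.symm
      (fun u v e => (LimModel.exists_of_inl_eq_inr f g e.symm).imp fun a ha => ⟨ha.2, ha.1⟩) hflip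
      (hrange _ _ _ _ hr hl h1 h2)
  · exact piece (pushout.inr f g) (pushout.inr f g) qV qV hr hr (𝟙 V) (𝟙 V) rfl rfl
      (fun u v e => ⟨u, rfl, (pushout.inr f g).isOpenEmbedding.injective e⟩)
      (pullback.diagonal qV).isClosedEmbedding.isClosed_range (hrange _ _ _ _ hr hr h1 h2)

theorem finite_type_pushout_desc {A U V S : Scheme.{u}} (f : A ⟶ U) (g : A ⟶ V) [IsOpenImmersion f] [IsOpenImmersion g]
    (qU : U ⟶ S) (qV : V ⟶ S) [LocallyOfFiniteType qU] [LocallyOfFiniteType qV] [QuasiCompact qU] [QuasiCompact qV]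
    (h : f ≫ qU = g ≫ qV) :
    LocallyOfFiniteType (pushout.desc qU qV h) ∧ QuasiCompact (pushout.desc qU qV h) := by
  haveI := LimModel.isOpenImmersion_inl f g
  haveI := LimModel.isOpenImmersion_inr f g
  refine ⟨?_, ?_⟩
  · let 𝒰 : (pushout f g : Scheme.{u}).OpenCover :=
      Scheme.Cover.mkOfCovers (ULift.{u} Bool) (fun b => cond b.down U V)
        (fun b => match b with | ⟨true⟩ => pushout.inl f g | ⟨false⟩ => pushout.inr f g)
        (fun x => by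
          rcases (LimModel.inl_range_sup_inr_range f g).ge (Set.mem_univ x) with ⟨y, hy⟩ | ⟨y, hy⟩
          · exact ⟨⟨true⟩, y, hy⟩
          · exact ⟨⟨false⟩, y, hy⟩)
        (fun b => by rcases b with ⟨_ | _⟩ <;> simp only <;> infer_instance)
    refine (IsZariskiLocalAtSource.iff_of_openCover (P := @LocallyOfFiniteType) 𝒰).2 ?_
    rintro ⟨_ | _⟩
    · show LocallyOfFiniteType (pushout.inr f g ≫ _); rw [pushout.inr_desc]; infer_instance
    · show LocallyOfFiniteType (pushout.inl f g ≫ _); rw [pushout.inl_desc]; infer_instance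
  · refine ⟨fun W hW hWc => ?_⟩
    have e : (pushout.desc qU qV h) ⁻¹' W = pushout.inl f g '' (qU ⁻¹' W) ∪ pushout.inr f g '' (qV ⁻¹' W) := by
      ext x
      constructor
      · intro hx
        rcases (LimModel.inl_range_sup_inr_range f g).ge (Set.mem_univ x) with ⟨y, rfl⟩ | ⟨y, rfl⟩
        · refine Or.inl ⟨y, ?_, rfl⟩
          rwa [Set.mem_preimage, ← Scheme.Hom.comp_apply, pushout.inl_desc] at hx
        · refine Or.inr ⟨y, ?_, rfl⟩
          rwa [Set.mem_preimage, ← Scheme.Hom.comp_apply, pushout.inr_desc] at hx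
      · rintro (⟨y, hy, rfl⟩ | ⟨y, hy, rfl⟩)
        · rwa [Set.mem_preimage, ← Scheme.Hom.comp_apply, pushout.inl_desc]
        · rwa [Set.mem_preimage, ← Scheme.Hom.comp_apply, pushout.inr_desc]
    rw [e]
    exact ((QuasiCompact.isCompact_preimage W hW hWc).image (pushout.inl f g).continuous).union
      ((QuasiCompact.isCompact_preimage W hW hWc).image (pushout.inr f g).continuous)

set_option maxHeartbeats 1600000 in
/-- One side of the construction: the blow-up of a common space of two centres sits openly in a blow-up of `X₁`. -/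
theorem exists_side {X₁ Z : Scheme.{u}} [CompactSpace X₁] [QuasiSeparatedSpace X₁] [CompactSpace Z] (O : X₁.Opens)
    (hO : IsCompact (O : Set X₁)) (I : Centre O) (D : I.T.Opens) (h : D.toScheme ⟶ Z) (p : Z ⟶ X₁)
    (hhp : h ≫ p = D.ι ≫ I.b) (hle : I.b ⁻¹ᵁ O ≤ D) (hblow : BlowUp.IsBlowUp h (I.ideal.comap p))
    (B : Z.IdealSheafData) (hBft : BlowUp.IsFiniteTypeIdeal B)
    (hB : Disjoint (B.support : Set Z) (p ⁻¹ᵁ O : Set Z)) :
    ∃ (K : X₁.IdealSheafData) (T : Scheme.{u}) (c : T ⟶ X₁) (W : Scheme.{u}) (w : W ⟶ T) (z : W ⟶ Z),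
      BlowUp.IsBlowUp c K ∧ BlowUp.IsAdmissibleFor O K ∧ IsOpenImmersion w ∧
      BlowUp.IsBlowUp z (I.ideal.comap p * B) ∧ z ≫ p = w ≫ c := by
  haveI : IsProper h := BlowUpExist.isProper_of_isFiniteType hblow (isFiniteType_comap p I.ft)
  haveI : CompactSpace D.toScheme := QuasiCompact.compactSpace_of_compactSpace h
  have hD : IsCompact (D : Set I.T) := isCompact_iff_compactSpace.2 ‹_›
  have hd : Disjoint ((B.comap h).support : Set D.toScheme) (D.ι ⁻¹ᵁ (I.b ⁻¹ᵁ O) : Set D.toScheme) := by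
    refine Set.disjoint_left.2 fun y hy hyO => ?_
    rw [Scheme.IdealSheafData.support_comap] at hy
    refine Set.disjoint_left.1 hB hy ?_
    show p (h y) ∈ O
    rw [← Scheme.Hom.comp_apply, hhp, Scheme.Hom.comp_apply]
    exact hyO
  obtain ⟨J, hJft, hJd, hJres⟩ := exists_extend_centre (I.b ⁻¹ᵁ O) D (I.b.isCompact_preimage hO) hD (B.comap h)
    (isFiniteType_comap h hBft) hd
  obtain ⟨T, c, hc⟩ := BlowUpExist.exists_isBlowUp I.T J
  obtain ⟨K, hKft, hKsupp, hK⟩ := exists_isBlowUp_comp I.isBlowUp I.ft hJft hc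
  have hKd : Disjoint (K.support : Set X₁) (O : Set X₁) := by
    rw [hKsupp]
    refine Set.disjoint_union_left.2 ⟨by rw [I.supp]; exact disjoint_compl_left, ?_⟩
    rw [Set.disjoint_left]
    rintro _ ⟨y, hy, rfl⟩ hyO
    exact Set.disjoint_left.1 hJd hy hyO
  have h1 := BlowUpLib.isBlowUp_flat D.ι hc
  rw [hJres] at h1
  refine ⟨K, T, c ≫ I.b, _, pullback.snd D.ι c, pullback.fst D.ι c ≫ h, hK, ⟨hKft, hKd⟩, inferInstance,
    BlowUpLib.isBlowUp_comp hblow h1, ?_⟩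
  rw [Category.assoc, hhp, pullback.condition_assoc]

set_option maxHeartbeats 1600000 in
/-- Admissible blow-ups of two separated schemes of finite type with a common open glue to a separated scheme. -/
theorem exists_glue_blowUps {U X₁ X₂ S : Scheme.{u}} [CompactSpace S] [QuasiSeparatedSpace S] [CompactSpace U]
    (g₁ : X₁ ⟶ S) (g₂ : X₂ ⟶ S)
    [IsSeparated g₁] [LocallyOfFiniteType g₁] [QuasiCompact g₁]
    [IsSeparated g₂] [LocallyOfFiniteType g₂] [QuasiCompact g₂]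
    (j₁ : U ⟶ X₁) (j₂ : U ⟶ X₂) [IsOpenImmersion j₁] [IsOpenImmersion j₂] (hj : j₁ ≫ g₁ = j₂ ≫ g₂) :
    ∃ (X : Scheme.{u}) (q : X ⟶ S) (_ : IsSeparated q) (_ : LocallyOfFiniteType q) (_ : QuasiCompact q)
      (𝓘₁ : X₁.IdealSheafData) (𝓘₂ : X₂.IdealSheafData) (X₁' X₂' : Scheme.{u}) (b₁ : X₁' ⟶ X₁) (b₂ : X₂' ⟶ X₂)
      (o₁ : X₁' ⟶ X) (o₂ : X₂' ⟶ X) (u₁ : U ⟶ X₁') (u₂ : U ⟶ X₂'),
      BlowUp.IsBlowUp b₁ 𝓘₁ ∧ BlowUp.IsAdmissibleFor j₁.opensRange 𝓘₁ ∧
      BlowUp.IsBlowUp b₂ 𝓘₂ ∧ BlowUp.IsAdmissibleFor j₂.opensRange 𝓘₂ ∧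
      IsOpenImmersion o₁ ∧ IsOpenImmersion o₂ ∧ o₁ ≫ q = b₁ ≫ g₁ ∧ o₂ ≫ q = b₂ ≫ g₂ ∧
      u₁ ≫ b₁ = j₁ ∧ u₂ ≫ b₂ = j₂ ∧ u₁ ≫ o₁ = u₂ ≫ o₂ ∧ Set.range o₁ ∪ Set.range o₂ = Set.univ := by
  haveI : CompactSpace X₁ := QuasiCompact.compactSpace_of_compactSpace g₁
  haveI : CompactSpace X₂ := QuasiCompact.compactSpace_of_compactSpace g₂
  haveI : QuasiSeparatedSpace X₁ := quasiSeparatedSpace_of_quasiSeparated g₁
  haveI : QuasiSeparatedSpace X₂ := quasiSeparatedSpace_of_quasiSeparated g₂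
  haveI : QuasiSeparatedSpace (pullback g₁ g₂ : Scheme.{u}) := quasiSeparatedSpace_of_quasiSeparated (pullback.fst g₁ g₂)
  haveI : CompactSpace (pullback g₁ g₂ : Scheme.{u}) := QuasiCompact.compactSpace_of_compactSpace (pullback.fst g₁ g₂)
  let γ : U ⟶ pullback g₁ g₂ := pullback.lift j₁ j₂ hj
  haveI : QuasiCompact γ := quasiCompact_of_compactSpace γ
  haveI : CompactSpace γ.image := QuasiCompact.compactSpace_of_compactSpace γ.imageι
  let p₁ := γ.imageι ≫ pullback.fst g₁ g₂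
  let p₂ := γ.imageι ≫ pullback.snd g₁ g₂
  obtain ⟨hi₁, -, hr₁⟩ := image_proj γ (pullback.fst g₁ g₂) j₁ (pullback.lift_fst _ _ _)
  obtain ⟨hi₂, -, hr₂⟩ := image_proj γ (pullback.snd g₁ g₂) j₂ (pullback.lift_snd _ _ _)
  haveI : IsIso (p₁ ∣_ j₁.opensRange) := hi₁
  haveI : IsIso (p₂ ∣_ j₂.opensRange) := hi₂
  have hO₁ : IsCompact (j₁.opensRange : Set X₁) := isCompact_range j₁.continuous
  have hO₂ : IsCompact (j₂.opensRange : Set X₂) := isCompact_range j₂.continuous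
  have hsame : (p₁ ⁻¹ᵁ j₁.opensRange : Set γ.image) = (p₂ ⁻¹ᵁ j₂.opensRange : Set γ.image) := hr₁.symm.trans hr₂
  obtain ⟨I₁, D₁, h₁, hf₁, hle₁, hb₁, ha₁, -⟩ := exists_openImmersion hO₁ p₁
  obtain ⟨I₂, D₂, h₂, hf₂, hle₂, hb₂, ha₂, -⟩ := exists_openImmersion hO₂ p₂
  obtain ⟨K₁, T₁, c₁, W₁, w₁, z₁, hc₁, hK₁, hw₁, hz₁, hcomm₁⟩ := exists_side j₁.opensRange hO₁ I₁ D₁ h₁ p₁ hf₁ hle₁ hb₁
    (I₂.ideal.comap p₂) ha₂.1 (hsame ▸ ha₂.2)
  obtain ⟨K₂, T₂, c₂, W₂, w₂, z₂, hc₂, hK₂, hw₂, hz₂, hcomm₂⟩ := exists_side j₂.opensRange hO₂ I₂ D₂ h₂ p₂ hf₂ hle₂ hb₂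
    (I₁.ideal.comap p₁) ha₁.1 (hsame ▸ ha₁.2)
  rw [mul_comm] at hz₂
  obtain ⟨θ, hθ, -⟩ := hz₂.2 W₁ z₁ hz₁.1
  obtain ⟨θ', hθ', -⟩ := hz₁.2 W₂ z₂ hz₂.1
  haveI : IsIso θ := ⟨θ', (hz₁.2 W₁ z₁ hz₁.1).unique (by rw [Category.assoc, hθ', hθ]) (Category.id_comp _),
    (hz₂.2 W₂ z₂ hz₂.1).unique (by rw [Category.assoc, hθ, hθ']) (Category.id_comp _)⟩
  have hsupp : ∀ y, γ.toImage y ∉ (I₁.ideal.comap p₁ * I₂.ideal.comap p₂).support := fun y hy => by
    rw [Scheme.IdealSheafData.support_mul] at hy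
    rcases hy with hy | hy
    · exact Set.disjoint_left.1 ha₁.2 hy (hr₁.subset ⟨y, rfl⟩)
    · exact Set.disjoint_left.1 ha₂.2 hy (hr₂.subset ⟨y, rfl⟩)
  obtain ⟨uZ, huZ, -⟩ := hz₁.2 U γ.toImage (BlowUpLib.comap_restrict_eq_top _ _ hsupp)
  have hu : ∀ {X' T : Scheme.{u}} (j : U ⟶ X') [IsOpenImmersion j] (K : X'.IdealSheafData),
      BlowUp.IsAdmissibleFor j.opensRange K → BlowUp.IsEffCartierIdeal (K.comap j) := fun j _ K hK =>
    BlowUpLib.comap_restrict_eq_top _ _ fun y h => Set.disjoint_left.1 hK.2 h ⟨y, rfl⟩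
  have hp₁ : γ.toImage ≫ p₁ = j₁ := by
    show γ.toImage ≫ γ.imageι ≫ pullback.fst g₁ g₂ = _
    rw [Scheme.Hom.toImage_imageι_assoc, pullback.lift_fst]
  have hp₂ : γ.toImage ≫ p₂ = j₂ := by
    show γ.toImage ≫ γ.imageι ≫ pullback.snd g₁ g₂ = _
    rw [Scheme.Hom.toImage_imageι_assoc, pullback.lift_snd]
  have hu₁ : (uZ ≫ w₁) ≫ c₁ = j₁ := by rw [Category.assoc, ← hcomm₁, reassoc_of% huZ, hp₁]
  have hu₂ : (uZ ≫ θ ≫ w₂) ≫ c₂ = j₂ := by
    rw [Category.assoc, Category.assoc, ← hcomm₂, reassoc_of% hθ, reassoc_of% huZ, hp₂]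
  have hover : w₁ ≫ c₁ ≫ g₁ = (θ ≫ w₂) ≫ c₂ ≫ g₂ := by
    simp only [Category.assoc]
    rw [← reassoc_of% hcomm₁, ← reassoc_of% hcomm₂, reassoc_of% hθ]
    simp only [p₁, p₂, Category.assoc, pullback.condition]
  haveI : IsProper c₁ := BlowUpExist.isProper_of_isFiniteType hc₁ hK₁.1
  haveI : IsProper c₂ := BlowUpExist.isProper_of_isFiniteType hc₂ hK₂.1
  haveI : IsProper z₁ := BlowUpExist.isProper_of_isFiniteType hz₁ (fun V => by
    rw [Scheme.IdealSheafData.ideal_mul, Pi.mul_apply]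
    exact (ha₁.1 V).mul (ha₂.1 V))
  haveI hsep : IsSeparated (pushout.desc (c₁ ≫ g₁) (c₂ ≫ g₂) hover) := by
    refine isSeparated_pushout_desc w₁ (θ ≫ w₂) _ _ hover ?_
    let Φ := pullback.map (c₁ ≫ g₁) (c₂ ≫ g₂) g₁ g₂ c₁ c₂ (𝟙 S) (by simp) (by simp)
    haveI : IsSeparated Φ := by
      haveI : IsSeparated (Φ ≫ (pullback.fst g₁ g₂ ≫ g₁)) := by
        rw [← Category.assoc, pullback.lift_fst, Category.assoc]
        infer_instance
      exact IsSeparated.of_comp Φ (pullback.fst g₁ g₂ ≫ g₁)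
    haveI : IsProper (pullback.lift w₁ (θ ≫ w₂) hover ≫ Φ) := by
      rw [show pullback.lift w₁ (θ ≫ w₂) hover ≫ Φ = z₁ ≫ γ.imageι from ?_]
      · infer_instance
      apply pullback.hom_ext
      · rw [Category.assoc, pullback.lift_fst, pullback.lift_fst_assoc, Category.assoc, ← hcomm₁]
      · rw [Category.assoc, pullback.lift_snd, pullback.lift_snd_assoc, Category.assoc, Category.assoc, ← hcomm₂,
          reassoc_of% hθ]
    haveI : IsProper (pullback.lift w₁ (θ ≫ w₂) hover) := IsProper.of_comp (f := pullback.lift w₁ (θ ≫ w₂) hover) (g := Φ)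
    exact (pullback.lift w₁ (θ ≫ w₂) hover).isClosedMap.isClosed_range
  obtain ⟨hlft, hqc⟩ := finite_type_pushout_desc w₁ (θ ≫ w₂) (c₁ ≫ g₁) (c₂ ≫ g₂) hover
  refine ⟨_, pushout.desc (c₁ ≫ g₁) (c₂ ≫ g₂) hover, hsep, hlft, hqc, K₁, K₂, T₁, T₂, c₁, c₂,
    pushout.inl w₁ (θ ≫ w₂), pushout.inr w₁ (θ ≫ w₂), uZ ≫ w₁, uZ ≫ θ ≫ w₂, hc₁, hK₁, hc₂, hK₂,
    LimModel.isOpenImmersion_inl _ _, LimModel.isOpenImmersion_inr _ _, pushout.inl_desc _ _ _, pushout.inr_desc _ _ _,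
    hu₁, hu₂, ?_, LimModel.inl_range_sup_inr_range _ _⟩
  rw [Category.assoc, pushout.condition]
  simp only [Category.assoc]

end Groth.Agent.RZExt
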