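import Groth.Agent.RZExt.Consequences
import Groth.Agent.LimClosed.FTIdeals

/-!
# Finite type ideals on a blow-up come from the base up to a power of the exceptional ideal
-/

set_option autoImplicit false
set_option linter.style.haveILetI false
set_option backward.isDefEq.respectTransparency false
set_option backward.isDefEq.respectTransparency.types false

universe u

open CategoryTheory CategoryTheory.Limits AlgebraicGeometry TopologicalSpace Topology

noncomputable section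

namespace Groth.Agent.RZExt

open Groth.Agent.BlowUpExist

variable {X X' : Scheme.{u}} {b : X' ⟶ X} {𝓘 : X.IdealSheafData}

theorem fracChartMax_aux (W : X.affineOpens) {R : Type u} [CommRing R] (φ : Γ(X, W.1) →+* R)
    (j : Spec (CommRingCat.of R) ⟶ X') [IsOpenImmersion j]
    (hj : j ≫ b = Spec.map (CommRingCat.ofHom φ) ≫ W.2.fromSpec) (α : Γ(X, W.1)) (hα : α ∈ 𝓘.ideal W)
    (hgen : (𝓘.ideal W).map φ = Ideal.span {φ α})
    (hrepr : ∀ r : R, ∃ n : ℕ, ∃ c ∈ 𝓘.ideal W ^ n, r * φ (α ^ n) = φ c)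
    (hG : j.opensRange ≤ b ⁻¹ᵁ W.1) {p : X'} (hp : p ∈ j.opensRange)
    (hmax : ∀ (V : X'.affineOpens) (hV : V.1 ≤ b ⁻¹ᵁ W.1), b.appLE W.1 V.1 hV α ∈ nonZeroDivisors Γ(X', V.1) →
      (𝓘.comap b).ideal V = Ideal.span {b.appLE W.1 V.1 hV α} → V.1 ≤ j.opensRange) :
    ∃ (G : X'.affineOpens) (hG : G.1 ≤ b ⁻¹ᵁ W.1) (α : Γ(X, W.1)), α ∈ 𝓘.ideal W ∧ p ∈ G.1 ∧
      (𝓘.comap b).ideal G = Ideal.span {b.appLE W.1 G.1 hG α} ∧
      (∀ r : Γ(X', G.1), ∃ k : ℕ, ∃ c ∈ 𝓘.ideal W ^ k, r * b.appLE W.1 G.1 hG α ^ k = b.appLE W.1 G.1 hG c) ∧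
      ∀ (V : X'.affineOpens) (hV : V.1 ≤ b ⁻¹ᵁ W.1), b.appLE W.1 V.1 hV α ∈ nonZeroDivisors Γ(X', V.1) →
        (𝓘.comap b).ideal V = Ideal.span {b.appLE W.1 V.1 hV α} → V.1 ≤ G.1 := by
  obtain ⟨θ, hθ, key⟩ := repr_opensRange (b := b) W j φ hj hG
  refine ⟨⟨j.opensRange, isAffineOpen_opensRange j⟩, hG, α, hα, hp,
    BlowAmp.ideal_opensRange W j φ hj α hgen hG, fun r => ?_, hmax⟩
  obtain ⟨n, c, hc, hr⟩ := hrepr (θ r)
  exact ⟨n, c, hc, hθ.1 (by rw [key, map_mul, map_pow, key, ← map_pow, hr])⟩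

/-- A chart with fractions, maximal among the affines where its element generates. -/
theorem exists_fracChartMax (hb : BlowUp.IsBlowUp b 𝓘) (W : X.affineOpens) (x : X') (hx : b x ∈ W.1) :
    ∃ (G : X'.affineOpens) (hG : G.1 ≤ b ⁻¹ᵁ W.1) (α : Γ(X, W.1)), α ∈ 𝓘.ideal W ∧ x ∈ G.1 ∧
      (𝓘.comap b).ideal G = Ideal.span {b.appLE W.1 G.1 hG α} ∧
      (∀ r : Γ(X', G.1), ∃ k : ℕ, ∃ c ∈ 𝓘.ideal W ^ k, r * b.appLE W.1 G.1 hG α ^ k = b.appLE W.1 G.1 hG c) ∧
      ∀ (V : X'.affineOpens) (hV : V.1 ≤ b ⁻¹ᵁ W.1), b.appLE W.1 V.1 hV α ∈ nonZeroDivisors Γ(X', V.1) →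
        (𝓘.comap b).ideal V = Ideal.span {b.appLE W.1 V.1 hV α} → V.1 ≤ G.1 := by
  obtain ⟨m, hm, hmr, hmb⟩ := BlowAmp.exists_model hb W
  let I := 𝓘.ideal W
  obtain ⟨p, rfl⟩ : x ∈ Set.range m := hmr.symm.subset hx
  obtain ⟨α, hα, z, hz⟩ := exists_chart I p
  have hG : (chart I α hα ≫ m).opensRange ≤ b ⁻¹ᵁ W.1 := by
    rintro _ ⟨y, rfl⟩
    exact hmr.subset ⟨chart I α hα y, (Scheme.Hom.comp_apply _ _ _).symm⟩
  have hj : (chart I α hα ≫ m) ≫ b = Spec.map (CommRingCat.ofHom (fromA I α hα)) ≫ W.2.fromSpec := by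
    rw [Category.assoc, hmb, ← Category.assoc, chart_structMap]
  refine fracChartMax_aux W (fromA I α hα) (chart I α hα ≫ m) hj α hα (map_fromA_eq I α hα) (fromA_repr I α hα) hG
    ⟨z, by rw [Scheme.Hom.comp_apply, hz]⟩ fun V hV hnzd hgen => ?_
  rw [FpqcDescent.ideal_comap_appLE 𝓘 b W V hV] at hgen
  have hr : Set.range V.2.fromSpec ⊆ Set.range m := by
    rw [V.2.range_fromSpec, hmr]
    exact hV
  let k : Spec Γ(X', V.1) ⟶ _ := IsOpenImmersion.lift m V.2.fromSpec hr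
  have hk : k ≫ m = V.2.fromSpec := IsOpenImmersion.lift_fac _ _ _
  haveI : IsOpenImmersion k := by
    haveI : IsOpenImmersion (k ≫ m) := hk ▸ inferInstance
    exact .of_comp k m
  have hc : k ≫ structMap I = Spec.map (b.appLE W.1 V.1 hV) := by
    rw [← cancel_mono W.2.fromSpec, Category.assoc, ← hmb, reassoc_of% hk,
      W.2.SpecMap_appLE_fromSpec b V.2 hV]
  let c : GoodChart I (structMap I) :=
    ⟨Γ(X', V.1), k, (b.appLE W.1 V.1 hV).hom, α, hα, hc, hnzd, hgen⟩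
  intro y hy
  obtain ⟨w, rfl⟩ : y ∈ Set.range V.2.fromSpec := V.2.range_fromSpec.symm ▸ hy
  obtain ⟨v, hv⟩ := range_le_chart I c k rfl w
  exact ⟨v, by rw [Scheme.Hom.comp_apply, hv, ← Scheme.Hom.comp_apply, hk]⟩

/-- Local criterion for membership in a direct image ideal. -/
theorem mem_map_ideal [QuasiCompact b] (K : X'.IdealSheafData) (W : X.affineOpens) (c : Γ(X, W.1))
    (h : ∀ z ∈ b ⁻¹ᵁ W.1, ∃ (G : X'.affineOpens) (hG : G.1 ≤ b ⁻¹ᵁ W.1), z ∈ G.1 ∧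
      b.appLE W.1 G.1 hG c ∈ K.ideal G) : c ∈ (K.map b).ideal W := by
  show c ∈ (K.subschemeι ≫ b).ker.ideal W
  rw [Scheme.Hom.ker_apply, RingHom.mem_ker]
  refine K.subscheme.IsSheaf.section_ext fun p hp => ?_
  obtain ⟨G, hG, hzG, hc⟩ := h (K.subschemeι p) hp
  refine ⟨K.subschemeι ⁻¹ᵁ G.1, fun q hq => hG hq, hzG, ?_⟩
  have e := congr($(Scheme.Hom.appLE_comp_appLE K.subschemeι b W.1 G.1 (K.subschemeι ⁻¹ᵁ G.1) hG le_rfl) c)
  rw [← K.ker_subschemeι_app, RingHom.mem_ker, Scheme.Hom.app_eq_appLE] at hc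
  rw [map_zero]
  exact e.symm.trans hc

set_option maxHeartbeats 800000 in
/-- A section of `J` on a chart times a high power of the chart element comes from the direct image. -/
theorem exists_mem_map (hb : BlowUp.IsBlowUp b 𝓘) [QuasiCompact b] (J : X'.IdealSheafData) (W : X.affineOpens)
    (G : X'.affineOpens) (hG : G.1 ≤ b ⁻¹ᵁ W.1) (α : Γ(X, W.1)) (hα : α ∈ 𝓘.ideal W)
    (hrepr : ∀ r : Γ(X', G.1), ∃ k : ℕ, ∃ c ∈ 𝓘.ideal W ^ k, r * b.appLE W.1 G.1 hG α ^ k = b.appLE W.1 G.1 hG c)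
    (hmax : ∀ (V : X'.affineOpens) (hV : V.1 ≤ b ⁻¹ᵁ W.1), b.appLE W.1 V.1 hV α ∈ nonZeroDivisors Γ(X', V.1) →
      (𝓘.comap b).ideal V = Ideal.span {b.appLE W.1 V.1 hV α} → V.1 ≤ G.1)
    (r : Γ(X', G.1)) (hr : r ∈ J.ideal G) :
    ∃ N : ℕ, ∀ n ≥ N, ∃ c ∈ ((J * (𝓘.comap b) ^ n).map b).ideal W,
      b.appLE W.1 G.1 hG c = r * b.appLE W.1 G.1 hG α ^ n := by
  classical
  obtain ⟨k, c₀, hc₀, hk⟩ := hrepr r
  -- at every point a power of the chart element moves the element into the ideal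
  have hloc : ∀ z : (b ⁻¹ᵁ W.1), ∃ (G' : X'.affineOpens) (hG' : G'.1 ≤ b ⁻¹ᵁ W.1) (g u a : Γ(X', G'.1)) (m : ℕ),
      (z : X') ∈ G'.1 ∧ (𝓘.comap b).ideal G' = Ideal.span {g} ∧ b.appLE W.1 G'.1 hG' α = a * g ∧
      b.appLE W.1 G'.1 hG' c₀ = u * g ^ k ∧ u * a ^ m ∈ J.ideal G' := by
    intro z
    obtain ⟨G', hzG', hG', g, hgnzd, hg⟩ := BlowUpLib.exists_small_generator hb.1 z.2
    have hmap := FpqcDescent.ideal_comap_appLE 𝓘 b W G' hG'
    rw [hg] at hmap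
    obtain ⟨a, ha⟩ := Ideal.mem_span_singleton'.1
      (hmap.ge (Ideal.mem_map_of_mem (b.appLE W.1 G'.1 hG').hom hα))
    obtain ⟨u, hu⟩ := Ideal.mem_span_singleton'.1 (show b.appLE W.1 G'.1 hG' c₀ ∈ Ideal.span {g ^ k} by
      rw [← Ideal.span_singleton_pow, hmap, ← Ideal.map_pow]
      exact Ideal.mem_map_of_mem (b.appLE W.1 G'.1 hG').hom hc₀)
    let ρ := (X'.presheaf.map (homOfLE (X'.basicOpen_le a)).op).hom
    letI : Algebra Γ(X', G'.1) Γ(X', X'.basicOpen a) := ρ.toAlgebra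
    haveI : IsLocalization.Away a Γ(X', X'.basicOpen a) := G'.2.isLocalization_basicOpen a
    have hV : X'.basicOpen a ≤ b ⁻¹ᵁ W.1 := (X'.basicOpen_le a).trans hG'
    have hρ : ∀ t : Γ(X, W.1), ρ (b.appLE W.1 G'.1 hG' t) = b.appLE W.1 (X'.basicOpen a) hV t := fun t => by
      show (b.appLE W.1 G'.1 hG' ≫ X'.presheaf.map (homOfLE (X'.basicOpen_le a)).op) t = _
      rw [Scheme.Hom.appLE_map]
    have hau : IsUnit (ρ a) := RingedSpace.isUnit_res_basicOpen X'.toRingedSpace a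
    have hgV : ρ g ∈ nonZeroDivisors Γ(X', X'.basicOpen a) :=
      IsLocalization.nonZeroDivisors_le_comap (Submonoid.powers a) Γ(X', X'.basicOpen a) hgnzd
    have hαV : b.appLE W.1 (X'.basicOpen a) hV α = ρ a * ρ g := by rw [← hρ, ← map_mul, ha]
    have hVG : X'.basicOpen a ≤ G.1 := by
      refine hmax (X'.affineBasicOpen a) hV ((congrArg (· ∈ nonZeroDivisors Γ(X', X'.basicOpen a)) hαV).mpr
        (mul_mem hau.mem_nonZeroDivisors hgV)) ?_
      rw [← (𝓘.comap b).map_ideal_basicOpen G' a, hg, Ideal.map_span, Set.image_singleton]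
      exact ((congrArg (fun t => Ideal.span ({t} : Set Γ(X', X'.basicOpen a))) hαV).trans
        (Ideal.span_singleton_mul_left_unit hau _)).symm
    let π := (X'.presheaf.map (homOfLE hVG).op).hom
    have hπ : ∀ t : Γ(X, W.1), π (b.appLE W.1 G.1 hG t) = b.appLE W.1 (X'.basicOpen a) hV t := fun t => by
      show (b.appLE W.1 G.1 hG ≫ X'.presheaf.map (homOfLE hVG).op) t = _
      rw [Scheme.Hom.appLE_map]
    have huV : ρ u = π r * ρ a ^ k := by
      refine (mul_cancel_right_mem_nonZeroDivisors (pow_mem hgV k)).1 ?_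
      rw [← map_pow ρ g k, ← map_mul, hu, hρ, ← hπ c₀, ← hk, map_mul, map_pow, hπ, hαV, mul_pow, map_pow, mul_assoc]
    have hπr : π r ∈ (J.ideal G').map ρ := by
      rw [J.map_ideal_basicOpen G' a, ← J.map_ideal (U := X'.affineBasicOpen a) (V := G) hVG]
      exact Ideal.mem_map_of_mem π hr
    obtain ⟨m, hm⟩ : ∃ m, u * a ^ m ∈ J.ideal G' := by
      have h1 : algebraMap Γ(X', G'.1) Γ(X', X'.basicOpen a) u ∈ (J.ideal G').map (algebraMap _ _) := by
        show ρ u ∈ (J.ideal G').map ρ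
        rw [huV]
        exact Ideal.mul_mem_right _ _ hπr
      obtain ⟨s, ⟨m, rfl⟩, hm⟩ := (IsLocalization.algebraMap_mem_map_algebraMap_iff (Submonoid.powers a) _ _ _).1 h1
      exact ⟨m, by rwa [mul_comm]⟩
    exact ⟨G', hG', g, u, a, m, hzG', hg, ha.symm, hu.symm, hm⟩
  choose G' hG' g u a m hzG' hg ha hu hm using hloc
  obtain ⟨t, ht⟩ := (b.isCompact_preimage W.2.isCompact).elim_finite_subcover (fun z => ((G' z).1 : Set X'))
    (fun z => (G' z).1.2) (fun z hz => Set.mem_iUnion.2 ⟨⟨z, hz⟩, hzG' _⟩)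
  refine ⟨k + t.sup m, fun n hn => ⟨c₀ * α ^ (n - k), ?_, ?_⟩⟩
  · refine mem_map_ideal _ W _ fun z hz => ?_
    obtain ⟨y, hy, hzy⟩ := Set.mem_iUnion₂.1 (ht hz)
    refine ⟨G' y, hG' y, hzy, ?_⟩
    have hmn : m y ≤ n - k := by
      have := Finset.le_sup (f := m) hy
      omega
    have e : b.appLE W.1 (G' y).1 (hG' y) (c₀ * α ^ (n - k)) =
        (u y * a y ^ m y) * (a y ^ (n - k - m y) * g y ^ n) := by
      rw [map_mul, map_pow, hu, ha, mul_pow]
      have e1 : a y ^ (n - k) = a y ^ m y * a y ^ (n - k - m y) := by rw [← pow_add, Nat.add_sub_cancel' hmn]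
      have e2 : g y ^ n = g y ^ k * g y ^ (n - k) := by rw [← pow_add, Nat.add_sub_cancel' (by omega)]
      rw [e1, e2]
      ring
    rw [e, Scheme.IdealSheafData.ideal_mul, Pi.mul_apply, Scheme.IdealSheafData.ideal_pow, Pi.pow_apply, hg,
      Ideal.span_singleton_pow]
    exact Ideal.mul_mem_mul (hm y) (Ideal.mem_span_singleton.2 (dvd_mul_left _ _))
  · rw [map_mul, map_pow, ← hk, mul_assoc, ← pow_add, Nat.add_sub_cancel' (by omega)]

set_option maxHeartbeats 800000 in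
/-- A finite type ideal on a blow-up is, up to a power of the exceptional ideal, the inverse image of one on the base. -/
theorem exists_descend [CompactSpace X] [QuasiSeparatedSpace X] (hb : BlowUp.IsBlowUp b 𝓘)
    (hI : BlowUp.IsFiniteTypeIdeal 𝓘) (J : X'.IdealSheafData) (hJ : BlowUp.IsFiniteTypeIdeal J) :
    ∃ (n : ℕ) (M : X.IdealSheafData), BlowUp.IsFiniteTypeIdeal M ∧ M.comap b = J * (𝓘.comap b) ^ n := by
  classical
  haveI := BlowUpExist.isProper_of_isFiniteType hb hI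
  haveI : CompactSpace X' := QuasiCompact.compactSpace_of_compactSpace b
  have hch : ∀ y : X', ∃ (W : X.affineOpens) (G : X'.affineOpens) (hG : G.1 ≤ b ⁻¹ᵁ W.1) (α : Γ(X, W.1))
      (S : Finset Γ(X', G.1)) (N : ℕ), y ∈ G.1 ∧ (𝓘.comap b).ideal G = Ideal.span {b.appLE W.1 G.1 hG α} ∧
      Ideal.span (S : Set Γ(X', G.1)) = J.ideal G ∧
      ∀ r ∈ S, ∀ n ≥ N, ∃ c ∈ ((J * (𝓘.comap b) ^ n).map b).ideal W,
        b.appLE W.1 G.1 hG c = r * b.appLE W.1 G.1 hG α ^ n := by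
    intro y
    obtain ⟨W, hW, hyW, -⟩ := exists_isAffineOpen_mem_and_subset (X := X) (U := ⊤) (x := b y) trivial
    obtain ⟨G, hG, α, hα, hyG, hgen, hrepr, hmax⟩ := exists_fracChartMax hb ⟨W, hW⟩ y hyW
    obtain ⟨S, hS⟩ := hJ G
    choose! N hN using fun r (hr : r ∈ S) =>
      exists_mem_map hb J ⟨W, hW⟩ G hG α hα hrepr hmax r (hS ▸ Ideal.subset_span hr)
    exact ⟨⟨W, hW⟩, G, hG, α, S, S.sup N, hyG, hgen, hS, fun r hr n hn =>
      hN r hr n ((Finset.le_sup (f := N) hr).trans hn)⟩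
  choose W G hG α S N hyG hgen hS hN using hch
  obtain ⟨t, ht⟩ := isCompact_univ.elim_finite_subcover (fun y => ((G y).1 : Set X')) (fun y => (G y).1.2)
    (fun y _ => Set.mem_iUnion.2 ⟨y, hyG y⟩)
  let n := t.sup N
  choose c hc hce using fun (y : {y // y ∈ t}) (r : {r // r ∈ S y.1}) =>
    hN y.1 r.1 r.2 n (Finset.le_sup (f := N) y.2)
  choose L hL hLfg hcL using fun (y : {y // y ∈ t}) (r : {r // r ∈ S y.1}) =>
    LimClosed.exists_ft_le _ (W y.1) (c y r) (hc y r)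
  let M := Finset.univ.sup fun i : Σ y : {y // y ∈ t}, {r // r ∈ S y.1} => L i.1 i.2
  have hMfg : BlowUp.IsFiniteTypeIdeal M := Finset.sup_induction
    (fun V => by rw [Scheme.IdealSheafData.ideal_bot]; exact Submodule.fg_bot)
    (fun A hA B hB V => by
      rw [Scheme.IdealSheafData.ideal_sup, Pi.sup_apply]
      exact Submodule.FG.sup (hA V) (hB V))
    (fun i _ => hLfg i.1 i.2)
  have hle : M.comap b ≤ J * (𝓘.comap b) ^ n :=
    Scheme.IdealSheafData.le_map_iff_comap_le.1 (Finset.sup_le fun i _ => hL i.1 i.2)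
  refine ⟨n, M, hMfg, le_antisymm hle ?_⟩
  refine (Scheme.IdealSheafData.ext_of_iSup_eq_top (fun y : {y // y ∈ t} => G y.1)
    (top_le_iff.1 fun z _ => ?_) fun y => le_antisymm (hle _) ?_).ge
  · obtain ⟨y, hy, hzy⟩ := Set.mem_iUnion₂.1 (ht (Set.mem_univ z))
    exact Opens.mem_iSup.2 ⟨⟨y, hy⟩, hzy⟩
  · rw [Scheme.IdealSheafData.ideal_mul, Pi.mul_apply, Scheme.IdealSheafData.ideal_pow, Pi.pow_apply, hgen,
      Ideal.span_singleton_pow, ← hS y.1, Ideal.span_mul_span', Ideal.span_le]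
    rintro _ ⟨r, hr, q, rfl, rfl⟩
    rw [SetLike.mem_coe]
    show r * _ ∈ _
    rw [← hce y ⟨r, hr⟩, FpqcDescent.ideal_comap_appLE M b (W y.1) (G y.1) (hG y.1)]
    exact Ideal.mem_map_of_mem _ ((Finset.le_sup (f := fun i : Σ y : {y // y ∈ t}, {r // r ∈ S y.1} => L i.1 i.2)
      (Finset.mem_univ ⟨y, r, hr⟩) : L y ⟨r, hr⟩ ≤ M) (W y.1) (hcL y ⟨r, hr⟩))

/-- A factor which stays effective Cartier does not change the blow-up. -/
theorem isBlowUp_mul_of_cartier {Y Z : Scheme.{u}} {c : Y ⟶ Z} {J F : Z.IdealSheafData} (hc : BlowUp.IsBlowUp c J)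
    (hF : BlowUp.IsEffCartierIdeal F) : BlowUp.IsBlowUp c (J * F) := by
  refine ⟨?_, fun T g hg => hc.2 T g ?_⟩
  · rw [BlowUpLib.comap_mul]
    exact BlowUpLib.cartier_mul hc.1 (BlowUpLib.cartier_comap_blowUp hc hF)
  · rw [BlowUpLib.comap_mul] at hg
    exact BlowUpLib.cartier_of_mul_left hg

theorem cartier_pow {Z : Scheme.{u}} {F : Z.IdealSheafData} (hF : BlowUp.IsEffCartierIdeal F) (n : ℕ) :
    BlowUp.IsEffCartierIdeal (F ^ n) := by
  induction n with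
  | zero => rw [pow_zero, Scheme.IdealSheafData.one_eq_top]; exact BlowUpLib.cartier_top
  | succ n ih => rw [pow_succ]; exact BlowUpLib.cartier_mul ih hF

/-- A blow-up of a blow-up is a blow-up. -/
theorem exists_isBlowUp_comp [CompactSpace X] [QuasiSeparatedSpace X] (hb : BlowUp.IsBlowUp b 𝓘)
    (hI : BlowUp.IsFiniteTypeIdeal 𝓘) {X'' : Scheme.{u}} {J : X'.IdealSheafData} (hJ : BlowUp.IsFiniteTypeIdeal J)
    {b' : X'' ⟶ X'} (hb' : BlowUp.IsBlowUp b' J) :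
    ∃ K : X.IdealSheafData, BlowUp.IsFiniteTypeIdeal K ∧
      (K.support : Set X) = (𝓘.support : Set X) ∪ (fun y => b y) '' (J.support : Set X') ∧
      BlowUp.IsBlowUp (b' ≫ b) K := by
  obtain ⟨n, M, hM, hMb⟩ := exists_descend hb hI J hJ
  refine ⟨𝓘 * M, fun V => ?_, ?_, BlowUpLib.isBlowUp_comp hb ?_⟩
  · rw [Scheme.IdealSheafData.ideal_mul, Pi.mul_apply]
    exact (hI V).mul (hM V)
  · haveI := BlowUpLib.isIso_restrict hb
    have hE : ∀ y, b y ∉ 𝓘.support → (b y ∈ M.support ↔ y ∈ J.support) := fun y hy => by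
      have h1 : y ∈ (M.comap b).support ↔ b y ∈ M.support := by
        rw [← SetLike.mem_coe, Scheme.IdealSheafData.support_comap]; rfl
      have h2 : y ∉ ((𝓘.comap b) ^ n).support := fun h => by
        cases n with
        | zero =>
          rw [pow_zero, Scheme.IdealSheafData.one_eq_top, Scheme.IdealSheafData.support_top] at h
          exact h
        | succ m =>
          rw [Scheme.IdealSheafData.support_pow_succ, ← SetLike.mem_coe,
            Scheme.IdealSheafData.support_comap] at h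
          exact hy h
      rw [← h1, hMb, Scheme.IdealSheafData.support_mul]
      exact or_iff_left h2
    rw [Scheme.IdealSheafData.support_mul, Closeds.coe_sup]
    ext z
    by_cases hz : z ∈ 𝓘.support
    · exact iff_of_true (Or.inl hz) (Or.inl hz)
    obtain ⟨y, hy⟩ := (b ∣_ 𝓘.support.compl).surjective ⟨z, hz⟩
    have hyz : b y.1 = z := by rw [morphismRestrict_base] at hy; exact congrArg Subtype.val hy
    constructor
    · rintro (h | h)
      · exact Or.inl h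
      · exact Or.inr ⟨y.1, (hE _ (hyz.symm ▸ hz)).1 (hyz.symm ▸ h), hyz⟩
    · rintro (h | ⟨y', hy', rfl⟩)
      · exact Or.inl h
      · exact Or.inr ((hE y' hz).2 hy')
  · rw [hMb]
    exact isBlowUp_mul_of_cartier hb' (cartier_pow hb.1 n)

end Groth.Agent.RZExt
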