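import Groth.Agent.RZExt.Two

/-!
# Gluing admissible blow-ups of finitely many schemes along their common open
-/

set_option autoImplicit false
set_option linter.style.haveILetI false
set_option backward.isDefEq.respectTransparency false

universe u

open CategoryTheory CategoryTheory.Limits AlgebraicGeometry TopologicalSpace Topology

noncomputable section

namespace Groth.Agent.RZExt

/-- An admissible blow-up is injective over the open. -/
theorem eq_of_isBlowUp {X X' : Scheme.{u}} {b : X' ⟶ X} {K : X.IdealSheafData} (hb : BlowUp.IsBlowUp b K)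
    {x y : X'} (hx : b x ∉ K.support) (h : b x = b y) : x = y := by
  haveI := BlowUpLib.isIso_restrict hb
  have hy : b y ∉ K.support := h ▸ hx
  have h1 := (b ∣_ K.support.compl).isOpenEmbedding.injective (a₁ := ⟨x, hx⟩) (a₂ := ⟨y, hy⟩)
    (by rw [morphismRestrict_base]; exact Subtype.ext h)
  exact congrArg Subtype.val h1

/-- The lift of an open immersion to an admissible blow-up is an open immersion. -/
theorem isOpenImmersion_of_lift {X X' U : Scheme.{u}} {b : X' ⟶ X} {K : X.IdealSheafData} (hb : BlowUp.IsBlowUp b K)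
    (j : U ⟶ X) [IsOpenImmersion j] (hK : Disjoint (K.support : Set X) (j.opensRange : Set X)) (u : U ⟶ X')
    (hu : u ≫ b = j) : IsOpenImmersion u := by
  haveI := BlowUpLib.isIso_restrict hb
  let C : X.Opens := K.support.compl
  have hr : Set.range u ⊆ Set.range (b ⁻¹ᵁ C).ι := by
    rintro _ ⟨a, rfl⟩
    rw [Scheme.Opens.range_ι]
    show b (u a) ∈ C
    rw [← Scheme.Hom.comp_apply, hu]
    exact fun h => Set.disjoint_left.1 hK h ⟨a, rfl⟩
  let l := IsOpenImmersion.lift (b ⁻¹ᵁ C).ι u hr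
  have hl : l ≫ (b ⁻¹ᵁ C).ι = u := IsOpenImmersion.lift_fac _ _ _
  haveI : IsOpenImmersion ((l ≫ b ∣_ C) ≫ C.ι) := by
    rw [Category.assoc, morphismRestrict_ι, reassoc_of% hl, hu]
    infer_instance
  haveI : IsOpenImmersion (l ≫ b ∣_ C) := IsOpenImmersion.of_comp (l ≫ b ∣_ C) C.ι
  haveI : IsOpenImmersion l := IsOpenImmersion.of_comp l (b ∣_ C)
  rw [← hl]
  infer_instance

/-- Data: admissible blow-ups of the `X i` glued into `Y`. -/
def IsCommonTarget {S U : Scheme.{u}} {ι : Type} (X : ι → Scheme.{u}) (g : ∀ i, X i ⟶ S) (j : ∀ i, U ⟶ X i)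
    [∀ i, IsOpenImmersion (j i)] {Y : Scheme.{u}} (q : Y ⟶ S) (v : U ⟶ Y) : Prop :=
  ∃ (𝓘 : ∀ i, (X i).IdealSheafData) (X' : ι → Scheme.{u}) (b : ∀ i, X' i ⟶ X i) (o : ∀ i, X' i ⟶ Y)
    (u : ∀ i, U ⟶ X' i),
    (∀ i, BlowUp.IsBlowUp (b i) (𝓘 i) ∧ BlowUp.IsAdmissibleFor (j i).opensRange (𝓘 i) ∧
      IsOpenImmersion (o i) ∧ o i ≫ q = b i ≫ g i ∧ u i ≫ b i = j i ∧ u i ≫ o i = v) ∧
    (⋃ i, Set.range (fun x => o i x)) = Set.univ

set_option maxHeartbeats 1600000 in
theorem exists_commonTarget {S U : Scheme.{u}} [CompactSpace S] [QuasiSeparatedSpace S] [CompactSpace U] :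
    ∀ (n : ℕ) (X : Fin (n + 1) → Scheme.{u}) (g : ∀ i, X i ⟶ S) [∀ i, IsSeparated (g i)] [∀ i, QuasiCompact (g i)]
      [∀ i, LocallyOfFiniteType (g i)] (j : ∀ i, U ⟶ X i) [∀ i, IsOpenImmersion (j i)],
      (∀ i i', j i ≫ g i = j i' ≫ g i') →
      ∃ (Y : Scheme.{u}) (q : Y ⟶ S) (v : U ⟶ Y), IsSeparated q ∧ QuasiCompact q ∧ LocallyOfFiniteType q ∧
        IsOpenImmersion v ∧ v ≫ q = j 0 ≫ g 0 ∧ IsCommonTarget X g j q v := by
  intro n
  induction n with
  | zero =>
    intro X g _ _ _ j _ hj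
    refine ⟨X 0, g 0, j 0, inferInstance, inferInstance, inferInstance, inferInstance, rfl, fun i => ⊤, X,
      fun i => 𝟙 _, fun i => eqToHom (by rw [Fin.fin_one_eq_zero i]), j, fun i => ?_, ?_⟩
    · obtain rfl := Fin.fin_one_eq_zero i
      refine ⟨⟨by rw [Scheme.IdealSheafData.comap_id]; exact BlowUpLib.cartier_top, fun Y k _ => ⟨k, Category.comp_id k,
          fun l hl => by simpa using hl⟩⟩, ⟨fun V => ?_, by rw [Scheme.IdealSheafData.support_top]; simp⟩,
        inferInstance, by simp, by simp, by simp⟩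
      rw [Scheme.IdealSheafData.ideal_top]
      exact ⟨{1}, by simp⟩
    · refine Set.eq_univ_of_forall fun x => Set.mem_iUnion.2 ⟨0, x, ?_⟩
      simp
  | succ n ih =>
    intro X g _ _ _ j _ hj
    obtain ⟨Y, q, v, hq₁, hq₂, hq₃, hv, hvq, 𝓘, X', b, o, u, hspec, hcov⟩ :=
      ih (fun i => X i.succ) (fun i => g i.succ) (fun i => j i.succ) (fun i i' => hj i.succ i'.succ)
    haveI : CompactSpace Y := QuasiCompact.compactSpace_of_compactSpace q
    obtain ⟨Y', q', h₁, h₂, h₃, K, K₀, T, T₀, c, c₀, t, t₀, w, w₀, hc, hK, hc₀, hK₀, ht, ht₀, htq, ht₀q, hwc, hwc₀,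
      hwt, hcov'⟩ := exists_glue_blowUps q (g 0) v (j 0) (hvq.trans (hj _ _))
    haveI : IsOpenImmersion w := isOpenImmersion_of_lift hc v hK.2 w hwc
    have key : ∀ i : Fin (n + 2), ∃ (J : (X i).IdealSheafData) (Z : Scheme.{u}) (β : Z ⟶ X i) (ω : Z ⟶ Y')
        (μ : U ⟶ Z), (BlowUp.IsBlowUp β J ∧ BlowUp.IsAdmissibleFor (j i).opensRange J ∧ IsOpenImmersion ω ∧
          ω ≫ q' = β ≫ g i ∧ μ ≫ β = j i ∧ μ ≫ ω = w ≫ t) ∧
        Fin.cases (motive := fun _ => Set Y') (Set.range t₀) (fun k => t '' (c ⁻¹' Set.range (o k))) i ⊆ Set.range ω := by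
      intro i
      induction i using Fin.cases with
      | zero => exact ⟨K₀, T₀, c₀, t₀, w₀, ⟨hc₀, hK₀, ht₀, ht₀q, hwc₀, hwt.symm⟩, subset_rfl⟩
      | succ k =>
        obtain ⟨hbk, hak, hok, hoq, huk, huv⟩ := hspec k
        haveI : CompactSpace (X k.succ) := QuasiCompact.compactSpace_of_compactSpace (g k.succ)
        haveI : QuasiSeparatedSpace (X k.succ) := quasiSeparatedSpace_of_quasiSeparated (g k.succ)
        obtain ⟨J, hJft, hJsupp, hJ⟩ := exists_isBlowUp_comp hbk hak.1 (isFiniteType_comap (o k) hK.1)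
          (BlowUpLib.isBlowUp_flat (o k) hc)
        refine ⟨J, _, pullback.fst (o k) c ≫ b k, pullback.snd (o k) c ≫ t,
          pullback.lift (u k) w (huv.trans hwc.symm), ⟨hJ, ⟨hJft, ?_⟩, inferInstance, ?_, ?_, ?_⟩, ?_⟩
        · rw [hJsupp]
          refine Set.disjoint_union_left.2 ⟨hak.2, ?_⟩
          rw [Set.disjoint_left]
          rintro _ ⟨y, hy, rfl⟩ ⟨a, ha⟩
          have e : u k a = y := eq_of_isBlowUp hbk (fun h => Set.disjoint_left.1 hak.2 h ⟨a, by
            rw [← Scheme.Hom.comp_apply, huk]⟩) (by rw [← Scheme.Hom.comp_apply, huk]; exact ha)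
          rw [Scheme.IdealSheafData.support_comap] at hy
          refine Set.disjoint_left.1 hK.2 hy ⟨a, ?_⟩
          show v a = o k y
          rw [← e, ← Scheme.Hom.comp_apply, huv]
        · rw [Category.assoc, htq, ← pullback.condition_assoc, hoq, Category.assoc]
        · rw [pullback.lift_fst_assoc, huk]
        · rw [pullback.lift_snd_assoc]
        · rintro _ ⟨y, hy, rfl⟩
          obtain ⟨z, hz⟩ : y ∈ Set.range (pullback.snd (o k) c) := by
            rw [IsOpenImmersion.range_pullbackSnd]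
            exact hy
          exact ⟨z, by rw [Scheme.Hom.comp_apply, hz]⟩
    choose J Z β ω μ hJ hsub using key
    refine ⟨Y', q', w ≫ t, h₁, h₃, h₂, inferInstance, ?_, J, Z, β, ω, μ, hJ, ?_⟩
    · rw [Category.assoc, htq, reassoc_of% hwc, hvq]
      exact hj _ _
    · refine Set.eq_univ_of_forall fun y => Set.mem_iUnion.2 ?_
      rcases hcov'.ge (Set.mem_univ y) with ⟨z, rfl⟩ | h
      · obtain ⟨k, hk⟩ := Set.mem_iUnion.1 (hcov.ge (Set.mem_univ (c z)))
        exact ⟨k.succ, hsub k.succ (by rw [Fin.cases_succ]; exact ⟨z, hk, rfl⟩)⟩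
      · exact ⟨0, hsub 0 h⟩

end Groth.Agent.RZExt
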