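import Groth.Agent.RZExt.Strict
import Groth.Prelude.Def_Coh

/-!
# The closed subscheme of torsion functions
-/

set_option autoImplicit false
set_option linter.style.haveILetI false
set_option backward.isDefEq.respectTransparency false
set_option backward.isDefEq.respectTransparency.types false

universe u

open CategoryTheory CategoryTheory.Limits AlgebraicGeometry TopologicalSpace Topology

noncomputable section

namespace Groth.Agent.RZExt

/-- The sections of `𝒥` are those killed by a power of `E`. -/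
def IsTorsionIdeal {P : Scheme.{u}} (E 𝒥 : P.IdealSheafData) : Prop :=
  ∀ (W : P.affineOpens) (a : Γ(P, W.1)), a ∈ 𝒥.ideal W ↔ ∃ n : ℕ, ∀ c ∈ (E ^ n).ideal W, c * a = 0

namespace IsTorsionIdeal

variable {P : Scheme.{u}} {E 𝒥 : P.IdealSheafData}

theorem of_killed (h : ∀ (W : P.affineOpens) (a : Γ(P, W.1)), a ∈ 𝒥.ideal W ↔
    BlowUp.KilledByPowerNear E (Coh.structureModule P) W a) : IsTorsionIdeal E 𝒥 :=
  fun W a => (h W a).trans Iff.rfl

theorem mem_iff_of_span (h : IsTorsionIdeal E 𝒥) {W : P.affineOpens} {e : Γ(P, W.1)}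
    (he : E.ideal W = Ideal.span {e}) (a : Γ(P, W.1)) : a ∈ 𝒥.ideal W ↔ ∃ n : ℕ, e ^ n * a = 0 := by
  refine (h W a).trans (exists_congr fun n => ?_)
  rw [Scheme.IdealSheafData.ideal_pow, Pi.pow_apply, he, Ideal.span_singleton_pow]
  refine ⟨fun H => H _ (Ideal.mem_span_singleton_self _), fun H c hc => ?_⟩
  obtain ⟨d, rfl⟩ := Ideal.mem_span_singleton'.1 hc
  rw [mul_assoc, H, mul_zero]

/-- Locally principal exceptional ideals: small affines with one generator. -/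
theorem exists_small {Q : Scheme.{u}} {F : Q.IdealSheafData} (hF : BlowUp.IsEffCartierIdeal F) (p : P ⟶ Q) (z : P)
    (O : P.Opens) (hz : z ∈ O) :
    ∃ (W : P.affineOpens) (e : Γ(P, W.1)), z ∈ W.1 ∧ W.1 ≤ O ∧ (F.comap p).ideal W = Ideal.span {e} := by
  obtain ⟨V, hpV, -, g, -, hg⟩ := BlowUpLib.exists_small_generator hF (show p z ∈ (⊤ : Q.Opens) from trivial)
  obtain ⟨W, hW, hzW, hWle⟩ := exists_isAffineOpen_mem_and_subset (X := P) (U := O ⊓ p ⁻¹ᵁ V.1) (x := z) ⟨hz, hpV⟩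
  refine ⟨⟨W, hW⟩, p.appLE V.1 W (fun y hy => (hWle hy).2) g, hzW, fun y hy => (hWle hy).1, ?_⟩
  rw [FpqcDescent.ideal_comap_appLE F p V ⟨W, hW⟩ (fun y hy => (hWle hy).2), hg, Ideal.map_span, Set.image_singleton]

/-- The torsion subscheme lies in the closure of the complement of `V(E)`. -/
theorem range_subset_closure (h : IsTorsionIdeal E 𝒥) {Q : Scheme.{u}} {F : Q.IdealSheafData}
    (hF : BlowUp.IsEffCartierIdeal F) (p : P ⟶ Q) (hE : E = F.comap p) :
    Set.range 𝒥.subschemeι ⊆ closure (E.support : Set P)ᶜ := by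
  rw [Scheme.IdealSheafData.range_subschemeι]
  intro z hz
  by_contra hcl
  obtain ⟨O, hOo, hzO, hO⟩ : ∃ O : Set P, IsOpen O ∧ z ∈ O ∧ O ⊆ E.support :=
    ⟨(closure (E.support : Set P)ᶜ)ᶜ, isClosed_closure.isOpen_compl, hcl, fun y hy => by
      by_contra hy'
      exact hy (subset_closure hy')⟩
  obtain ⟨W, e, hzW, hWO, he⟩ := exists_small hF p z ⟨O, hOo⟩ hzO
  rw [← hE] at he
  have hempty : P.basicOpen e = ⊥ := by
    refine le_bot_iff.1 fun y hy => ?_
    exact ((BlowUpLib.mem_basicOpen_of_notMem_support he (P.basicOpen_le e hy)).2 hy) (hO (hWO (P.basicOpen_le e hy)))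
  obtain ⟨N, hN⟩ := (exists_pow_dvd W.2 (f := e) (g := (0 : Γ(P, W.1))) (by rw [hempty]; exact bot_le))
  have h1 : (1 : Γ(P, W.1)) ∈ 𝒥.ideal W := (h.mem_iff_of_span he 1).2 ⟨N, by rw [mul_one]; exact zero_dvd_iff.1 hN⟩
  rw [SetLike.mem_coe, Scheme.IdealSheafData.mem_support_iff_of_mem (U := W) hzW, Scheme.mem_zeroLocus_iff] at hz
  exact hz 1 h1 (by rw [P.basicOpen_of_isUnit isUnit_one]; exact hzW)

/-- A morphism along which `E` pulls back to an effective Cartier ideal factors through the torsion subscheme. -/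
theorem le_ker (h : IsTorsionIdeal E 𝒥) {D : Scheme.{u}} (σ : D ⟶ P) (hσ : BlowUp.IsEffCartierIdeal (E.comap σ)) :
    𝒥 ≤ σ.ker := by
  rw [Scheme.Hom.ker, Scheme.IdealSheafData.le_ofIdeals_iff]
  intro W a ha
  rw [RingHom.mem_ker]
  obtain ⟨n, hn⟩ := (h W a).1 ha
  refine D.IsSheaf.section_ext fun z hz => ?_
  obtain ⟨G, hzG, hGW, g, hgnzd, hg⟩ := BlowUpLib.exists_small_generator hσ hz
  refine ⟨G.1, hGW, hzG, ?_⟩
  have hg' : Ideal.map (σ.appLE W.1 G.1 hGW).hom ((E ^ n).ideal W) = Ideal.span {g ^ n} := by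
    rw [Scheme.IdealSheafData.ideal_pow, Pi.pow_apply, Ideal.map_pow,
      ← FpqcDescent.ideal_comap_appLE E σ W G hGW, hg, Ideal.span_singleton_pow]
  have hzero : σ.appLE W.1 G.1 hGW a * g ^ n = 0 := by
    have h1 : g ^ n ∈ (⊥ : Ideal Γ(D, G.1)).colon {(σ.appLE W.1 G.1 hGW).hom a} := by
      refine (hg'.ge.trans (Ideal.map_le_iff_le_comap.2 fun c hc => ?_)) (Ideal.mem_span_singleton_self _)
      rw [Ideal.mem_comap, Submodule.mem_colon_singleton, Ideal.mem_bot, smul_eq_mul, ← map_mul, hn c hc, map_zero]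
    rw [Submodule.mem_colon_singleton, Ideal.mem_bot, smul_eq_mul, mul_comm] at h1
    exact h1
  rw [map_zero]
  exact mem_nonZeroDivisors_iff_right.1 (pow_mem hgnzd n) _ hzero

/-- On the torsion subscheme `E` is effective Cartier. -/
theorem cartier_comap (h : IsTorsionIdeal E 𝒥) {Q : Scheme.{u}} {F : Q.IdealSheafData}
    (hF : BlowUp.IsEffCartierIdeal F) (p : P ⟶ Q) (hE : E = F.comap p) :
    BlowUp.IsEffCartierIdeal (E.comap 𝒥.subschemeι) := by
  intro z
  obtain ⟨W, e, hzW, -, he⟩ := exists_small hF p (𝒥.subschemeι z) ⊤ trivial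
  rw [← hE] at he
  let W' : 𝒥.subscheme.affineOpens := ⟨𝒥.subschemeι ⁻¹ᵁ W.1, W.2.preimage 𝒥.subschemeι⟩
  refine ⟨W', hzW, (𝒥.subschemeι.app W.1).hom e, ?_, ?_⟩
  · rw [mem_nonZeroDivisors_iff_right]
    intro y hy
    obtain ⟨a, rfl⟩ := 𝒥.subschemeι_app_surjective W y
    have h1 : a * e ∈ 𝒥.ideal W := by
      rw [← Scheme.IdealSheafData.ker_subschemeι_app, RingHom.mem_ker, map_mul]
      exact hy
    obtain ⟨n, hn⟩ := (h.mem_iff_of_span he _).1 h1
    have h2 : a ∈ 𝒥.ideal W := (h.mem_iff_of_span he _).2 ⟨n + 1, by linear_combination hn⟩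
    rwa [← Scheme.IdealSheafData.ker_subschemeι_app, RingHom.mem_ker] at h2
  · rw [FpqcDescent.ideal_comap_appLE E 𝒥.subschemeι W W' le_rfl, he, Ideal.map_span, Set.image_singleton,
      Scheme.Hom.app_eq_appLE]

end IsTorsionIdeal

variable {S X : Scheme.{u}} {U : S.Opens} {f : X ⟶ S} {s : (U : Scheme.{u}) ⟶ X}

set_option maxHeartbeats 800000 in
/-- The torsion subscheme of a base change to a blow-up is the domain of the extension. -/
theorem strictTransform_iso [IsSeparated f] [IsIso (f ∣_ U)] (hs : s ≫ f = U.ι) (I : Centre U) (Q : Piece f s I)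
    (hQ : ∀ z ∈ closure (overU f I : Set (pullback f I.b : Scheme.{u})), pullback.snd f I.b z ∈ Q.nhd)
    {X' : Scheme.{u}} {p₁ : X' ⟶ X} {p₂ : X' ⟶ I.T} (hpb : IsPullback p₁ p₂ f I.b) (𝒥 : X'.IdealSheafData)
    (h𝒥 : IsTorsionIdeal ((I.ideal.comap f).comap p₁) 𝒥) :
    ∃ π : 𝒥.subscheme ⟶ Q.nhd.toScheme, IsIso π ∧ π ≫ Q.nhd.ι = 𝒥.subschemeι ≫ p₂ := by
  set E := (I.ideal.comap f).comap p₁ with hEdef
  have hE : E = (I.ideal.comap I.b).comap p₂ := by
    rw [hEdef, ← Scheme.IdealSheafData.comap_comp, ← Scheme.IdealSheafData.comap_comp, hpb.w]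
  have hcl := h𝒥.range_subset_closure I.isBlowUp.1 p₂ hE
  have hsupp : ∀ z : X', z ∉ E.support ↔ I.b (p₂ z) ∈ U := fun z => by
    rw [hE, ← Scheme.IdealSheafData.comap_comp, ← SetLike.mem_coe, Scheme.IdealSheafData.support_comap,
      Closeds.coe_preimage, I.supp]
    exact not_not
  have hrange : Set.range (𝒥.subschemeι ≫ p₂) ⊆ Set.range Q.nhd.ι := by
    rintro _ ⟨z, rfl⟩
    rw [Scheme.Opens.range_ι, Scheme.Hom.comp_apply]
    have h1 := map_mem_closure hpb.isoPullback.hom.continuous (hcl ⟨z, rfl⟩)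
      (t := (overU f I : Set (pullback f I.b : Scheme.{u}))) (fun y hy => by
        show I.b (pullback.snd f I.b (hpb.isoPullback.hom y)) ∈ U
        rw [← Scheme.Hom.comp_apply _ (pullback.snd f I.b), hpb.isoPullback_hom_snd]
        exact (hsupp y).1 hy)
    have h2 := hQ _ h1
    rw [← Scheme.Hom.comp_apply, hpb.isoPullback_hom_snd] at h2
    exact h2
  let π := IsOpenImmersion.lift Q.nhd.ι (𝒥.subschemeι ≫ p₂) hrange
  have hπ : π ≫ Q.nhd.ι = 𝒥.subschemeι ≫ p₂ := IsOpenImmersion.lift_fac _ _ _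
  let σ : Q.nhd.toScheme ⟶ X' := hpb.lift Q.hom Q.nhd.ι Q.over'
  have hσ₁ : σ ≫ p₁ = Q.hom := hpb.lift_fst _ _ _
  have hσ₂ : σ ≫ p₂ = Q.nhd.ι := hpb.lift_snd _ _ _
  have hcart : BlowUp.IsEffCartierIdeal (E.comap σ) := by
    rw [hE, ← Scheme.IdealSheafData.comap_comp, hσ₂]
    exact BlowUpLib.cartier_comap_flat I.isBlowUp.1 _
  let σ' := IsClosedImmersion.lift 𝒥.subschemeι σ (by
    rw [Scheme.IdealSheafData.ker_subschemeι]; exact h𝒥.le_ker σ hcart)
  have hσ' : σ' ≫ 𝒥.subschemeι = σ := IsClosedImmersion.lift_fac _ _ _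
  refine ⟨π, ⟨σ', ?_, ?_⟩, hπ⟩
  · rw [← cancel_mono 𝒥.subschemeι, Category.assoc, hσ', Category.id_comp]
    refine hpb.hom_ext ?_ (by rw [Category.assoc, hσ₂, hπ])
    rw [Category.assoc, hσ₁]
    refine hom_ext_of_cartier (f := f) _ (h𝒥.cartier_comap I.isBlowUp.1 p₂ hE) (by
      rw [Category.assoc, Category.assoc, Q.over', reassoc_of% hπ, hpb.w]) ?_
    set O := HTop.awayFrom (E.comap 𝒥.subschemeι)
    have hr : Set.range (O.ι ≫ 𝒥.subschemeι ≫ p₂ ≫ I.b) ⊆ Set.range U.ι := by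
      rintro _ ⟨y, rfl⟩
      rw [Scheme.Opens.range_ι, Scheme.Hom.comp_apply, Scheme.Hom.comp_apply, Scheme.Hom.comp_apply]
      refine (hsupp _).1 fun h => y.2 ?_
      rw [Scheme.IdealSheafData.support_comap, Closeds.coe_preimage]
      exact h
    let r := IsOpenImmersion.lift U.ι (O.ι ≫ 𝒥.subschemeι ≫ p₂ ≫ I.b) hr
    rw [← Category.assoc, Q.compat _ (O.ι ≫ π) r (by
        rw [IsOpenImmersion.lift_fac, Category.assoc, reassoc_of% hπ]),
      eq_comp_section hs (O.ι ≫ 𝒥.subschemeι ≫ p₁) r (by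
        rw [IsOpenImmersion.lift_fac, Category.assoc, Category.assoc, hpb.w])]
  · rw [← cancel_mono Q.nhd.ι, Category.assoc, hπ, reassoc_of% hσ', hσ₂, Category.id_comp]

end Groth.Agent.RZExt
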