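import Mathlib

/-!
# Rings in which finitely generated ideals containing a power of `a` are principal
-/

set_option autoImplicit false

universe u

open IsLocalRing

namespace Groth.Agent.RZExt

variable {R : Type u} [CommRing R] {a : R}
  (hpair : ∀ (n : ℕ) (p q : R), a ^ n ∈ Ideal.span {p, q} → p ∣ q ∨ q ∣ p)

include hpair in
theorem dvd_or_dvd_pow (n : ℕ) (f : R) : f ∣ a ^ n ∨ a ^ n ∣ f :=
  hpair n f (a ^ n) (Ideal.subset_span (Set.mem_insert_of_mem _ rfl))

variable (Ra : Type u) [CommRing Ra] [Algebra R Ra] [IsLocalization.Away a Ra]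

theorem isUnit_of_dvd_pow {f : R} {n : ℕ} (h : f ∣ a ^ n) : IsUnit (algebraMap R Ra f) :=
  isUnit_of_dvd_unit (map_dvd (algebraMap R Ra) h)
    (IsLocalization.map_units Ra (⟨a ^ n, n, rfl⟩ : Submonoid.powers a))

include hpair in
theorem isLocalRing_away [Nontrivial Ra] : IsLocalRing Ra := by
  refine ⟨fun {x y} hxy => ?_⟩
  obtain ⟨f, ⟨_, n, rfl⟩, rfl⟩ := IsLocalization.exists_mk'_eq (Submonoid.powers a) x
  obtain ⟨g, ⟨_, m, rfl⟩, rfl⟩ := IsLocalization.exists_mk'_eq (Submonoid.powers a) y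
  rw [← IsLocalization.mk'_add, IsLocalization.mk'_eq_iff_eq_mul, one_mul,
    IsLocalization.eq_iff_exists (Submonoid.powers a)] at hxy
  obtain ⟨⟨_, l, rfl⟩, hl⟩ := hxy
  simp only [Submonoid.coe_mul] at hl
  have hu : ∀ (r : R) (k : ℕ), IsUnit (algebraMap R Ra r) →
      IsUnit (IsLocalization.mk' Ra r (⟨a ^ k, k, rfl⟩ : Submonoid.powers a)) := fun r k hr => by
    rw [← IsLocalization.mk'_spec Ra r (⟨a ^ k, k, rfl⟩ : Submonoid.powers a), IsUnit.mul_iff] at hr
    exact hr.1
  have hmem : a ^ (l + n + m) ∈ Ideal.span {f, g} := by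
    rw [Ideal.mem_span_pair]
    exact ⟨a ^ l * a ^ m, a ^ l * a ^ n, by linear_combination hl⟩
  rcases hpair _ f g hmem with h | h
  · left
    refine hu f n (isUnit_of_dvd_pow (a := a) Ra (n := l + n + m) ?_)
    obtain ⟨c, d, hcd⟩ := Ideal.mem_span_pair.1 hmem
    rw [← hcd]
    exact dvd_add (dvd_mul_left f c) (h.trans (dvd_mul_left g d))
  · right
    refine hu g m (isUnit_of_dvd_pow (a := a) Ra (n := l + n + m) ?_)
    obtain ⟨c, d, hcd⟩ := Ideal.mem_span_pair.1 hmem
    rw [← hcd]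
    exact dvd_add (h.trans (dvd_mul_left f c)) (dvd_mul_left g d)

variable [IsLocalRing Ra]

include hpair in
theorem mem_or_inv_mem (z : ResidueField Ra) :
    z ∈ ((residue Ra).comp (algebraMap R Ra)).range ∨ z⁻¹ ∈ ((residue Ra).comp (algebraMap R Ra)).range := by
  obtain ⟨x, rfl⟩ := residue_surjective z
  obtain ⟨f, ⟨_, n, rfl⟩, rfl⟩ := IsLocalization.exists_mk'_eq (Submonoid.powers a) x
  set s : Submonoid.powers a := ⟨a ^ n, n, rfl⟩
  rcases dvd_or_dvd_pow hpair n f with ⟨c, hc⟩ | ⟨c, hc⟩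
  · refine Or.inr ⟨c, ?_⟩
    refine (inv_eq_of_mul_eq_one_right ?_).symm
    rw [RingHom.comp_apply, ← map_mul, ← IsLocalization.mk'_one (M := Submonoid.powers a) Ra c,
      ← IsLocalization.mk'_mul, mul_one, ← hc]
    exact (congrArg _ (IsLocalization.mk'_self' Ra (x := s))).trans (map_one _)
  · refine Or.inl ⟨c, ?_⟩
    rw [RingHom.comp_apply]
    refine congrArg _ ?_
    rw [IsLocalization.eq_mk'_iff_mul_eq]
    exact (map_mul _ _ _).symm.trans (congrArg _ (by rw [hc]; exact mul_comm _ _))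

/-- The image of `R` in the residue field of `R[1/a]`, a valuation ring. -/
noncomputable def valRing : ValuationSubring (ResidueField Ra) :=
  { ((residue Ra).comp (algebraMap R Ra)).range with
    mem_or_inv_mem' := mem_or_inv_mem hpair Ra }

include hpair in
theorem mem_range_of_residue_mem (x : Ra) (hx : residue Ra x ∈ valRing hpair Ra) :
    x ∈ (algebraMap R Ra).range := by
  obtain ⟨r₀, hr₀⟩ := hx
  obtain ⟨f, ⟨_, n, rfl⟩, hf⟩ := IsLocalization.exists_mk'_eq (Submonoid.powers a) (x - algebraMap R Ra r₀)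
  rcases dvd_or_dvd_pow hpair n f with h | ⟨c, hc⟩
  · exfalso
    have h1 := isUnit_of_dvd_pow (a := a) Ra h
    rw [← IsLocalization.mk'_spec Ra f (⟨a ^ n, n, rfl⟩ : Submonoid.powers a), hf, IsUnit.mul_iff] at h1
    refine (residue_ne_zero_iff_isUnit _).2 h1.1 ?_
    rw [map_sub, ← hr₀, RingHom.comp_apply, sub_self]
  · refine ⟨c + r₀, ?_⟩
    rw [map_add, ← eq_sub_iff_add_eq, ← hf, IsLocalization.eq_mk'_iff_mul_eq]
    exact (map_mul _ _ _).symm.trans (congrArg _ (by rw [hc]; exact mul_comm _ _))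

/-- The surjection onto the valuation ring. -/
noncomputable def valMap : R →+* valRing hpair Ra :=
  ((residue Ra).comp (algebraMap R Ra)).codRestrict (valRing hpair Ra) fun r => ⟨r, rfl⟩

theorem valMap_surjective : Function.Surjective (valMap hpair Ra) := by
  rintro ⟨o, r, hr⟩
  exact ⟨r, Subtype.ext hr⟩

theorem valMap_eq_zero_iff (r : R) : valMap hpair Ra r = 0 ↔ ¬ IsUnit (algebraMap R Ra r) := by
  rw [Subtype.ext_iff]
  exact residue_eq_zero_iff (algebraMap R Ra r)

theorem isLocalHom_valMap [IsLocalRing R] : IsLocalHom (valMap hpair Ra) := by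
  refine ⟨fun r hr => ?_⟩
  obtain ⟨v, hv⟩ := hr.exists_right_inv
  obtain ⟨r', rfl⟩ := valMap_surjective hpair Ra v
  by_contra hnu
  have h1 : valMap hpair Ra (r * r' - 1) = 0 := by rw [map_sub, map_mul, map_one, hv, sub_self]
  have h2 : ¬ IsUnit (r * r' - 1) := fun hu => (hu.map _).ne_zero h1
  refine (IsLocalRing.maximalIdeal.isMaximal R).ne_top ((Ideal.eq_top_iff_one _).2 ?_)
  simpa using sub_mem (Ideal.mul_mem_right r' (IsLocalRing.maximalIdeal R) hnu)
    (show r * r' - 1 ∈ IsLocalRing.maximalIdeal R from h2)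

include hpair in
theorem valMap_dvd (hinj : Function.Injective (algebraMap R Ra)) (c d : R) (hc : valMap hpair Ra c = 0)
    (hd : valMap hpair Ra d ≠ 0) : d ∣ c := by
  rw [valMap_eq_zero_iff] at hc
  obtain ⟨v, hv⟩ := (not_not.1 ((valMap_eq_zero_iff hpair Ra d).not.1 hd)).exists_right_inv
  obtain ⟨d', ⟨_, n, rfl⟩, rfl⟩ := IsLocalization.exists_mk'_eq (Submonoid.powers a) v
  have h1 : d * d' = a ^ n := by
    refine hinj ?_
    rw [map_mul, ← IsLocalization.mk'_spec Ra d' (⟨a ^ n, n, rfl⟩ : Submonoid.powers a), ← mul_assoc, hv, one_mul]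
  rcases dvd_or_dvd_pow hpair n c with h | h
  · exact absurd (isUnit_of_dvd_pow (a := a) Ra h) hc
  · exact (Dvd.intro d' h1).trans h

end Groth.Agent.RZExt
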