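import Groth.Agent.RZExt.Ring

/-!
# Finitely generated ideals containing a power of the exceptional element are principal
-/

set_option autoImplicit false
set_option linter.style.haveILetI false

universe u

open CategoryTheory CategoryTheory.Limits AlgebraicGeometry TopologicalSpace

noncomputable section

namespace Groth.Agent.RZExt

theorem mem_nonZeroDivisors_of_dvd {R : Type u} [CommRing R] {a b : R} (h : a ∣ b)
    (hb : b ∈ nonZeroDivisors R) : a ∈ nonZeroDivisors R := by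
  obtain ⟨c, rfl⟩ := h
  rw [mem_nonZeroDivisors_iff_right] at hb ⊢
  exact fun z hz => hb z (by rw [← mul_assoc, hz, zero_mul])

theorem dvd_or_dvd_of_span_eq {R : Type u} [CommRing R] [IsLocalRing R] {p q A E : R}
    (hA : A ∈ nonZeroDivisors R) (hE : E ∈ nonZeroDivisors R)
    (h : Ideal.span {E} = Ideal.span {A * p, A * q}) : p ∣ q ∨ q ∣ p := by
  obtain ⟨c, d, hcd⟩ := Ideal.mem_span_pair.1 (h ▸ Ideal.mem_span_singleton_self E)
  obtain ⟨p₁, hp⟩ := Ideal.mem_span_singleton.1 (h.symm ▸ Ideal.subset_span (Set.mem_insert (A * p) {A * q}))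
  obtain ⟨q₁, hq⟩ := Ideal.mem_span_singleton.1
    (h.symm ▸ Ideal.subset_span (Set.mem_insert_of_mem (A * p) (Set.mem_singleton (A * q))))
  have h1 : c * p₁ + d * q₁ = 1 := by
    rw [← mul_cancel_left_mem_nonZeroDivisors hE, mul_one]
    linear_combination hcd - c * hp - d * hq
  rcases IsLocalRing.isUnit_or_isUnit_of_add_one h1 with hu | hu
  · left
    obtain ⟨v, hv⟩ := (isUnit_of_mul_isUnit_right hu).exists_left_inv
    refine ⟨v * q₁, ?_⟩
    rw [← mul_cancel_left_mem_nonZeroDivisors hA]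
    linear_combination hq - (E * q₁) * hv - (v * q₁) * hp
  · right
    obtain ⟨v, hv⟩ := (isUnit_of_mul_isUnit_right hu).exists_left_inv
    refine ⟨v * p₁, ?_⟩
    rw [← mul_cancel_left_mem_nonZeroDivisors hA]
    linear_combination hp - (E * p₁) * hv - (v * p₁) * hq

/-- Making `(b₁, b₂) + (A) ^ m` principal makes one of `z`, `w` divide the other. -/
theorem dvd_or_dvd_of_blowUp {R : Type u} [CommRing R] [IsLocalRing R] {a A z w v v' C₁ C₂ E : R} {n N k₁ k₂ : ℕ}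
    (hA : A ∈ nonZeroDivisors R) (hv : IsUnit v) (hv' : IsUnit v') (hz : z * v * A ^ k₁ = C₁)
    (hw : w * v' * A ^ k₂ = C₂) (hpq : a ^ n ∈ Ideal.span {z, w}) (hN : a ∣ A ^ N)
    (hE : Ideal.span {E} = Ideal.span {C₁ * A ^ k₂, C₂ * A ^ k₁} ⊔ Ideal.span {A} ^ (k₁ + k₂ + N * n)) :
    z ∣ w ∨ w ∣ z := by
  set P := z * v with hP
  set Q := w * v' with hQ
  obtain ⟨v₁, hv₁⟩ := hv.exists_left_inv
  obtain ⟨v₂, hv₂⟩ := hv'.exists_left_inv
  obtain ⟨t, ht⟩ := pow_dvd_pow_of_dvd hN n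
  rw [← pow_mul] at ht
  obtain ⟨c, d, hcd⟩ := Ideal.mem_span_pair.1 hpq
  have e₁ : C₁ * A ^ k₂ = A ^ (k₁ + k₂) * P := by rw [← hz, pow_add]; ring
  have e₂ : C₂ * A ^ k₁ = A ^ (k₁ + k₂) * Q := by rw [← hw, pow_add]; ring
  have hmem : A ^ (k₁ + k₂ + N * n) ∈ Ideal.span {A ^ (k₁ + k₂) * P, A ^ (k₁ + k₂) * Q} := by
    refine Ideal.mem_span_pair.2 ⟨t * c * v₁, t * d * v₂, ?_⟩
    rw [pow_add A (k₁ + k₂) (N * n), ht, ← hcd, hP, hQ]
    linear_combination (A ^ (k₁ + k₂) * t * c * z) * hv₁ + (A ^ (k₁ + k₂) * t * d * w) * hv₂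
  rw [e₁, e₂, Ideal.span_singleton_pow, sup_eq_left.2 ((Ideal.span_singleton_le_iff_mem _).2 hmem)] at hE
  have hEnzd : E ∈ nonZeroDivisors R := by
    rw [← hE] at hmem
    exact mem_nonZeroDivisors_of_dvd (Ideal.mem_span_singleton.1 hmem) (pow_mem hA _)
  have := dvd_or_dvd_of_span_eq (pow_mem hA _) hEnzd hE
  simpa only [P, Q, hv.mul_right_dvd, hv.dvd_mul_right, hv'.mul_right_dvd, hv'.dvd_mul_right] using this

variable {S : Scheme.{u}} {U : S.Opens}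

/-- In an affine open, an element vanishing wherever another does is in the radical. -/
theorem exists_pow_dvd {X : Scheme.{u}} {V : X.Opens} (hV : IsAffineOpen V) {f g : Γ(X, V)}
    (h : X.basicOpen f ≤ X.basicOpen g) : ∃ N, g ∣ f ^ N := by
  have h1 : PrimeSpectrum.basicOpen f ≤ PrimeSpectrum.basicOpen g := by
    rw [← hV.fromSpec_preimage_basicOpen f, ← hV.fromSpec_preimage_basicOpen g]
    exact fun z hz => h hz
  obtain ⟨N, hN⟩ := (PrimeSpectrum.basicOpen_le_basicOpen_iff f g).1 h1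
  exact ⟨N, Ideal.mem_span_singleton.1 hN⟩

namespace Sys

variable (x : Sys U) [hne : Nonempty (Centre U)] {W : S.affineOpens} (hxW : ∀ I : Centre U, I.b (x.pt I) ∈ W.1)

/-- The functions of the base. -/
def base : Γ(S, W.1) →+* x.R :=
  (x.of ⟨hne.some, hne.some.b ⁻¹ᵁ W.1, hxW _⟩).comp (hne.some.b.app W.1).hom

theorem map_app {i j : x.Idx} (h : i ≤ j) (e : i.nhd ≤ i.stage.b ⁻¹ᵁ W.1) (e' : j.nhd ≤ j.stage.b ⁻¹ᵁ W.1)
    (c : Γ(S, W.1)) : map i j h (i.stage.b.appLE W.1 i.nhd e c) = j.stage.b.appLE W.1 j.nhd e' c := by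
  have key : ∀ (k : j.stage.T ⟶ S) (e'' : j.nhd ≤ k ⁻¹ᵁ W.1), k = Centre.trans h.1 ≫ i.stage.b →
      map i j h (i.stage.b.appLE W.1 i.nhd e c) = k.appLE W.1 j.nhd e'' c := by
    rintro k e'' rfl
    exact congr($(Scheme.Hom.appLE_comp_appLE (Centre.trans h.1) i.stage.b W.1 i.nhd j.nhd e h.2) c)
  exact key _ e' (Centre.trans_b h.1).symm

theorem of_appLE (i : x.Idx) (e : i.nhd ≤ i.stage.b ⁻¹ᵁ W.1) (c : Γ(S, W.1)) :
    x.of i (i.stage.b.appLE W.1 i.nhd e c) = x.base hxW c := by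
  let i₀ : x.Idx := ⟨hne.some, hne.some.b ⁻¹ᵁ W.1, hxW _⟩
  obtain ⟨j, hij, h0j⟩ := exists_ge_ge i i₀
  have e' : j.nhd ≤ j.stage.b ⁻¹ᵁ W.1 := fun z hz => by
    show j.stage.b z ∈ W.1
    rw [← Centre.b_trans_apply hij.1]
    exact e (hij.2 hz)
  rw [← x.of_map hij, x.map_app hij e e' c, base, RingHom.comp_apply, ← x.of_map h0j,
    ← x.map_app h0j le_rfl e' c, Scheme.Hom.app_eq_appLE]

theorem gen_map {i j : x.Idx} (h : i ≤ j) (hi : IsAffineOpen i.nhd) (hj : IsAffineOpen j.nhd)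
    (I : Centre U) {e : Γ(i.stage.T, i.nhd)}
    (he : (I.ideal.comap i.stage.b).ideal ⟨i.nhd, hi⟩ = Ideal.span {e}) :
    (I.ideal.comap j.stage.b).ideal ⟨j.nhd, hj⟩ = Ideal.span {map i j h e} := by
  rw [← Centre.trans_b h.1, Scheme.IdealSheafData.comap_comp,
    FpqcDescent.ideal_comap_appLE _ (Centre.trans h.1) ⟨i.nhd, hi⟩ ⟨j.nhd, hj⟩ h.2, he, Ideal.map_span,
    Set.image_singleton]
  rfl

/-- A small affine index on which a centre pulls back to a principal ideal with a regular generator. -/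
theorem exists_small (i : x.Idx) (I : Centre U) (hI : I ≤ i.stage) (O : i.stage.T.Opens)
    (hO : x.pt i.stage ∈ O) : ∃ (V : i.stage.T.affineOpens) (g : Γ(i.stage.T, V.1)), x.pt i.stage ∈ V.1 ∧
      V.1 ≤ O ⊓ i.nhd ∧ g ∈ nonZeroDivisors Γ(i.stage.T, V.1) ∧
      (I.ideal.comap i.stage.b).ideal V = Ideal.span {g} := by
  obtain ⟨V, hxV, hV, g, hg, hgen⟩ := BlowUpLib.exists_small_generator (Centre.cartier_comap hI)
    (show x.pt i.stage ∈ O ⊓ i.nhd from ⟨hO, i.mem⟩)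
  exact ⟨V, g, hxV, hV, hg, hgen⟩

variable {i₀ : x.Idx} (h0 : IsAffineOpen i₀.nhd) (h0W : i₀.nhd ≤ i₀.stage.b ⁻¹ᵁ W.1) {a₀ : Γ(i₀.stage.T, i₀.nhd)}
  (ha₀ : (i₀.stage.ideal.comap i₀.stage.b).ideal ⟨i₀.nhd, h0⟩ = Ideal.span {a₀})

include h0 h0W ha₀ in
/-- Above any index there is one on which `a₀` is regular and cuts out the part over `U`. -/
theorem exists_nice (i : x.Idx) (hi : i₀ ≤ i) :
    ∃ j, ∃ hij : i ≤ j, IsAffineOpen j.nhd ∧ j.nhd ≤ j.stage.b ⁻¹ᵁ W.1 ∧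
      map i₀ j (hi.trans hij) a₀ ∈ nonZeroDivisors Γ(j.stage.T, j.nhd) ∧
      j.stage.T.basicOpen (map i₀ j (hi.trans hij) a₀) = j.nhd ⊓ j.stage.b ⁻¹ᵁ U := by
  obtain ⟨V, g, hxV, hV, hg, hgen⟩ := x.exists_small i i₀.stage hi.1 i.nhd i.mem
  have hle : i ≤ x.shrink i V.1 hxV := x.le_shrink i V.1 hxV (hV.trans inf_le_right)
  have h1 := x.gen_map (hi.trans hle) h0 V.2 i₀.stage ha₀
  refine ⟨x.shrink i V.1 hxV, hle, V.2, fun z hz => ?_, ?_, Centre.basicOpen_eq h1⟩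
  · show i.stage.b z ∈ W.1
    have h2 : i₀.stage.b (Centre.trans hi.1 z) ∈ W.1 := h0W (hi.2 (hV hz).2)
    rwa [Centre.b_trans_apply hi.1] at h2
  · have h2 : g ∈ Ideal.span {map i₀ (x.shrink i V.1 hxV) (hi.trans hle) a₀} := by
      rw [← h1]
      exact hgen.ge (Ideal.mem_span_singleton_self g)
    exact mem_nonZeroDivisors_of_dvd (Ideal.mem_span_singleton.1 h2) hg

include h0 h0W ha₀ in
theorem of_mem_nonZeroDivisors : x.of i₀ a₀ ∈ nonZeroDivisors x.R := by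
  rw [mem_nonZeroDivisors_iff_right]
  intro r hr
  obtain ⟨i, hi, z, -, rfl, -⟩ := x.exists_of₂ i₀ r r
  rw [← x.of_map hi a₀, ← map_mul, ← map_zero (x.of i), x.of_eq_iff] at hr
  obtain ⟨k, hik, hk⟩ := hr
  rw [map_mul, map_zero] at hk
  obtain ⟨j, hkj, -, -, hnzd, -⟩ := x.exists_nice h0 h0W ha₀ k (hi.trans hik)
  have hk' := congrArg (map k j hkj) hk
  rw [map_mul, map_zero, DirectedSystem.map_map (f := fun i j h => ⇑(map (x := x) i j h)),
    DirectedSystem.map_map (f := fun i j h => ⇑(map (x := x) i j h))] at hk'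
  rw [← x.of_map hik, ← x.of_map hkj, DirectedSystem.map_map (f := fun i j h => ⇑(map (x := x) i j h))]
  rw [DirectedSystem.map_map (f := fun i j h => ⇑(map (x := x) i j h))] at hk'
  rw [mem_nonZeroDivisors_iff_right.1 hnzd _ hk', map_zero]

include hxW h0 h0W ha₀ in
theorem dvd_or_dvd [CompactSpace S] [QuasiSeparatedSpace S] (n : ℕ) (p q : x.R)
    (hpq : x.of i₀ a₀ ^ n ∈ Ideal.span {p, q}) : p ∣ q ∨ q ∣ p := by
  classical
  obtain ⟨i, hi, z, w, rfl, rfl⟩ := x.exists_of₂ i₀ p q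
  obtain ⟨j, hij, hjaff, hjW, hjnzd, hjU⟩ := x.exists_nice h0 h0W ha₀ i hi
  obtain ⟨G, hG, α, hα, hxG, hαnzd, hgenG, hrepr⟩ :=
    exists_fracChart j.stage.isBlowUp W (x.pt j.stage) (hxW _)
  obtain ⟨h, hh, hxh⟩ := G.2.exists_basicOpen_le ⟨x.pt j.stage, j.mem⟩ hxG
  let jG : x.Idx := x.shrink j G.1 hxG
  let jh : x.Idx := x.shrink j (j.stage.T.basicOpen h) hxh
  have hle : j ≤ jh := x.le_shrink j _ hxh hh
  have hleG : jG ≤ jh := x.le_shrink jG _ hxh (j.stage.T.basicOpen_le h)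
  have hjhaff : IsAffineOpen jh.nhd := G.2.basicOpen h
  let A := x.base hxW α
  have hAG : x.of jG (j.stage.b.appLE W.1 G.1 hG α) = A := x.of_appLE hxW jG hG α
  have hopen : j.stage.T.basicOpen ((j.stage.T.presheaf.map (homOfLE (j.stage.T.basicOpen_le h)).op).hom
      (j.stage.b.appLE W.1 G.1 hG α)) =
      j.stage.T.basicOpen ((j.stage.T.presheaf.map (homOfLE hh).op).hom (map i₀ j (hi.trans hij) a₀)) := by
    rw [Scheme.basicOpen_res, Scheme.basicOpen_res, hjU, Centre.basicOpen_eq (I := j.stage) hgenG,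
      ← inf_assoc, ← inf_assoc, inf_of_le_left (j.stage.T.basicOpen_le h), inf_of_le_left hh]
  obtain ⟨N, hN⟩ := exists_pow_dvd (X := j.stage.T) hjhaff hopen.le
  obtain ⟨M, hM⟩ := exists_pow_dvd (X := j.stage.T) hjhaff hopen.ge
  have ha : x.of jh ((j.stage.T.presheaf.map (homOfLE hh).op).hom (map i₀ j (hi.trans hij) a₀)) =
      x.of i₀ a₀ := (x.of_shrink j _ hxh hh _).trans (x.of_map _ _)
  have hA : x.of jh ((j.stage.T.presheaf.map (homOfLE (j.stage.T.basicOpen_le h)).op).hom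
      (j.stage.b.appLE W.1 G.1 hG α)) = A := (x.of_shrink jG _ hxh _ _).trans hAG
  replace hN := map_dvd (x.of jh) hN
  replace hM := map_dvd (x.of jh) hM
  rw [map_pow] at hN hM
  erw [ha, hA] at hN hM
  have hAnzd : A ∈ nonZeroDivisors x.R :=
    mem_nonZeroDivisors_of_dvd hM (pow_mem (x.of_mem_nonZeroDivisors h0 h0W ha₀) M)
  -- fractions on the chart
  haveI := G.2.isLocalization_basicOpen h
  have hnum : ∀ t : Γ(j.stage.T, jh.nhd), ∃ (v : x.R) (k : ℕ) (c : Γ(S, W.1)), IsUnit v ∧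
      c ∈ j.stage.ideal.ideal W ^ k ∧ x.of jh t * v * A ^ k = x.base hxW c := fun t => by
    obtain ⟨⟨t', ⟨_, m, rfl⟩⟩, ht⟩ := IsLocalization.surj (Submonoid.powers h) t
    obtain ⟨k, c, hc, hk⟩ := hrepr t'
    have hH : ∀ r : Γ(j.stage.T, G.1), x.of jh (algebraMap Γ(j.stage.T, G.1) Γ(j.stage.T, jh.nhd) r) = x.of jG r :=
      fun r => x.of_shrink jG _ hxh _ r
    refine ⟨x.of jG (h ^ m), k, c, (map_pow (x.of jG) h m) ▸ (x.isUnit_of_iff.2 hxh).pow m, hc, ?_⟩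
    have ht' := congrArg (x.of jh) ht
    rw [map_mul] at ht'
    erw [hH, hH] at ht'
    have hk' := congrArg (x.of jG) hk
    rw [map_mul, map_pow] at hk'
    erw [hAG, x.of_appLE hxW jG hG c] at hk'
    rw [ht']
    exact hk'
  obtain ⟨v, k₁, c₁, hv, hc₁, hz'⟩ := hnum (map j jh hle (map i j hij z))
  obtain ⟨v', k₂, c₂, hv', hc₂, hw'⟩ := hnum (map j jh hle (map i j hij w))
  rw [x.of_map, x.of_map] at hz' hw'
  -- the new centre
  let b₁ := c₁ * α ^ k₂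
  let b₂ := c₂ * α ^ k₁
  have hb₁ : b₁ ∈ j.stage.ideal.ideal W ^ (k₁ + k₂) := by
    rw [pow_add]; exact Ideal.mul_mem_mul hc₁ (Ideal.pow_mem_pow hα _)
  have hb₂ : b₂ ∈ j.stage.ideal.ideal W ^ (k₁ + k₂) := by
    rw [add_comm k₁, pow_add]; exact Ideal.mul_mem_mul hc₂ (Ideal.pow_mem_pow hα _)
  obtain ⟨J, hJ, L, hLW, hJL⟩ := exists_centre j.stage W (k₁ + k₂ + N * n)
    (Ideal.span {b₁, b₂} ⊔ j.stage.ideal.ideal W ^ (k₁ + k₂ + N * n))
    (Submodule.FG.sup ⟨{b₁, b₂}, by simp⟩ (Ideal.FG.pow (j.stage.ft W))) le_sup_right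
  have hJc : BlowUp.IsEffCartierIdeal (L.comap J.b) := by
    have h := J.isBlowUp.1
    rw [hJL, BlowUpLib.comap_mul] at h
    exact BlowUpLib.cartier_of_mul_right h
  obtain ⟨V, hxV, hVW, ε, -, hgen⟩ := BlowUpLib.exists_small_generator hJc (show x.pt J ∈ J.b ⁻¹ᵁ W.1 from hxW J)
  let jV : x.Idx := ⟨J, V.1, hxV⟩
  have hbase : (x.of jV).comp (J.b.appLE W.1 V.1 hVW).hom = x.base hxW :=
    RingHom.ext fun c => x.of_appLE hxW jV hVW c
  rw [FpqcDescent.ideal_comap_appLE L J.b W V hVW, hLW] at hgen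
  have hE := congrArg (Ideal.map (x.of jV)) hgen
  rw [Ideal.map_map, hbase, Ideal.map_span, Set.image_singleton, Ideal.map_sup, Ideal.map_pow, Ideal.map_span,
    Set.image_pair] at hE
  have hIA : (j.stage.ideal.ideal W).map (x.base hxW) = Ideal.span {A} := by
    have h1 := congrArg (Ideal.map (x.of jG)) hgenG
    rw [FpqcDescent.ideal_comap_appLE j.stage.ideal j.stage.b W G hG, Ideal.map_map, Ideal.map_span,
      Set.image_singleton] at h1
    rw [← show (x.of jG).comp (j.stage.b.appLE W.1 G.1 hG).hom = x.base hxW from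
      RingHom.ext fun c => x.of_appLE hxW jG hG c]
    exact h1.trans (congrArg (fun r => Ideal.span {r}) hAG)
  rw [hIA, map_mul, map_mul, map_pow, map_pow] at hE
  exact dvd_or_dvd_of_blowUp (a := x.of i₀ a₀) (n := n) (N := N) hAnzd hv hv' hz' hw' hpq hN hE.symm

end Sys

end Groth.Agent.RZExt
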