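import Groth.Agent.RZExt.Extend

/-!
# The closure of the part over `U` in a base change to the admissible blow-ups
-/

set_option autoImplicit false
set_option linter.style.haveILetI false
set_option backward.isDefEq.respectTransparency false
set_option backward.isDefEq.respectTransparency.types false

universe u

open CategoryTheory CategoryTheory.Limits AlgebraicGeometry TopologicalSpace Topology

noncomputable section

namespace Groth.Agent.RZExt

variable {S X : Scheme.{u}} {U : S.Opens} {f : X ⟶ S} {s : (U : Scheme.{u}) ⟶ X}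

/-- Evaluation of the functions of an affine open along a morphism from an affine scheme. -/
theorem appLE_fromSpec {Y : Scheme.{u}} {V : Y.Opens} (hV : IsAffineOpen V) {B : CommRingCat.{u}} (g : Γ(Y, V) ⟶ B)
    (k : Spec B ⟶ Y) (hk : k = Spec.map g ≫ hV.fromSpec) (e : ⊤ ≤ k ⁻¹ᵁ V) (z : Γ(Y, V)) :
    (Scheme.ΓSpecIso B).hom (k.appLE V ⊤ e z) = g z := by
  refine (QC.appLE_specMap_comp hV.fromSpec g V (by rw [hV.fromSpec_preimage_self]) k hk e z).trans ?_
  refine congrArg g.hom ?_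
  rw [Scheme.Hom.appLE, hV.fromSpec_app_self]
  simp only [Category.assoc, ← Functor.map_comp, CommRingCat.comp_apply]
  simp

/-- The transition maps of the base changes. -/
abbrev trP (f : X ⟶ S) {I J : Centre U} (h : I ≤ J) : pullback f J.b ⟶ pullback f I.b :=
  pullback.map f J.b f I.b (𝟙 X) (Centre.trans h) (𝟙 S) (by simp) (by simp)

/-- The part over `U`. -/
abbrev overU (f : X ⟶ S) (I : Centre U) : (pullback f I.b).Opens := pullback.snd f I.b ⁻¹ᵁ (I.b ⁻¹ᵁ U)

/-- A compatible family of points in closed subsets of the base changes. -/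
theorem exists_systemP [CompactSpace S] [QuasiSeparatedSpace S] (hU : IsCompact (U : Set S))
    [QuasiCompact f] [IsSeparated f] (B : ∀ I : Centre U, Set (pullback f I.b : Scheme.{u}))
    (hB : ∀ I, IsClosed (B I)) (hne : ∀ I, (B I).Nonempty)
    (hmap : ∀ {I J : Centre U} (h : I ≤ J), Set.MapsTo (fun x => trP f h x) (B J) (B I)) :
    ∃ w : ∀ I : Centre U, (pullback f I.b : Scheme.{u}), (∀ I, w I ∈ B I) ∧
      ∀ {I J : Centre U} (h : I ≤ J), trP f h (w J) = w I := by
  haveI := nonempty_centre U hU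
  have hrefl : ∀ I : Centre U, trP f (le_refl I) = 𝟙 _ := fun I => by
    apply pullback.hom_ext <;> simp [Centre.trans_refl]
  have hcomp : ∀ {I J K : Centre U} (h : I ≤ J) (h' : J ≤ K), trP f h' ≫ trP f h = trP f (h.trans h') :=
    fun {I J K} h h' => by apply pullback.hom_ext <;> simp [Centre.trans_comp]
  have hcs : ∀ I : Centre U, CompactSpace (pullback f I.b : Scheme.{u}) := fun I =>
    QuasiCompact.compactSpace_of_compactSpace (pullback.snd f I.b)
  have hqs : ∀ I : Centre U, QuasiSeparatedSpace (pullback f I.b : Scheme.{u}) := fun I =>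
    quasiSeparatedSpace_of_quasiSeparated (pullback.snd f I.b)
  have hqc : ∀ {I J : Centre U} (h : I ≤ J), QuasiCompact (trP f h) := fun {I J} h => by
    haveI : QuasiCompact (trP f h ≫ pullback.fst f I.b) := by
      rw [pullback.lift_fst]; infer_instance
    exact QuasiCompact.of_comp _ (pullback.fst f I.b)
  let F : (Centre U)ᵒᵈ ⥤ TopCat.{u} :=
    { obj := fun I => TopCat.of (pullback f (OrderDual.ofDual I).b : Scheme.{u})
      map := fun {I J} a => TopCat.ofHom ⟨fun z => trP f (OrderDual.ofDual_le_ofDual.2 (leOfHom a)) z,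
        (trP f (OrderDual.ofDual_le_ofDual.2 (leOfHom a))).continuous⟩
      map_id := fun I => by ext z; exact congrArg (fun k : pullback f (OrderDual.ofDual I).b ⟶ pullback f (OrderDual.ofDual I).b => k z) (hrefl _)
      map_comp := fun {I J K} a a' => by
        ext z
        refine (congrArg (fun k : pullback f (OrderDual.ofDual I).b ⟶ pullback f (OrderDual.ofDual K).b => k z) (hcomp
          (OrderDual.ofDual_le_ofDual.2 (leOfHom a')) (OrderDual.ofDual_le_ofDual.2 (leOfHom a)))).symm.trans ?_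
        exact Scheme.Hom.comp_apply _ _ z }
  have hF : ∀ I, SpectralSpace (F.obj I) := fun I => by
    haveI := hcs (OrderDual.ofDual I)
    haveI := hqs (OrderDual.ofDual I)
    exact show SpectralSpace (pullback f (OrderDual.ofDual I).b : Scheme.{u}) from {}
  have hFm : ∀ {I J : (Centre U)ᵒᵈ} (a : I ⟶ J), IsSpectralMap (F.map a : F.obj I → F.obj J) := fun {I J} a => by
    haveI := hqc (OrderDual.ofDual_le_ofDual.2 (leOfHom a))
    exact (trP f (OrderDual.ofDual_le_ofDual.2 (leOfHom a))).isSpectralMap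
  obtain ⟨p, hp⟩ := SpecSpLib.exists_point hF hFm (TopCat.limitConeIsLimit F) (fun I => B (OrderDual.ofDual I))
    (fun I => hne _) (fun I => ConsTop.isOpen_cons_of_isOpen (hB _).isOpen_compl)
    (fun a => hmap (OrderDual.ofDual_le_ofDual.2 (leOfHom a)))
  refine ⟨fun I => (TopCat.limitCone F).π.app (OrderDual.toDual I) p, fun I => hp (OrderDual.toDual I),
    fun {I J} h => ?_⟩
  exact congrArg (fun k : (TopCat.limitCone F).pt ⟶ F.obj (OrderDual.toDual I) => k p)
    ((TopCat.limitCone F).w (homOfLE (OrderDual.toDual_le_toDual.2 h)))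

/-- The piece over `U`. -/
def Piece.ofU (hs : s ≫ f = U.ι) (I : Centre U) : Piece f s I where
  nhd := I.b ⁻¹ᵁ U
  hom := (I.b ∣_ U) ≫ s
  over' := by rw [Category.assoc, hs, morphismRestrict_ι]
  compat Y p q hpq := by
    rw [← Category.assoc]
    congr 1
    rw [← cancel_mono U.ι, Category.assoc, morphismRestrict_ι, hpq]

/-- Over `U` there is only the section. -/
theorem eq_comp_section [IsIso (f ∣_ U)] (hs : s ≫ f = U.ι) {Y : Scheme.{u}} (r : Y ⟶ X) (q : Y ⟶ U.toScheme)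
    (h : r ≫ f = q ≫ U.ι) : r = q ≫ s := by
  have hr : Set.range r ⊆ Set.range (f ⁻¹ᵁ U).ι := by
    rintro _ ⟨y, rfl⟩
    rw [Scheme.Opens.range_ι]
    show f (r y) ∈ U
    rw [← Scheme.Hom.comp_apply, h, Scheme.Hom.comp_apply]
    exact (q y).2
  have hsr : Set.range s ⊆ Set.range (f ⁻¹ᵁ U).ι := by
    rintro _ ⟨y, rfl⟩
    rw [Scheme.Opens.range_ι]
    show f (s y) ∈ U
    rw [← Scheme.Hom.comp_apply, hs]
    exact y.2
  rw [← IsOpenImmersion.lift_fac _ r hr, ← IsOpenImmersion.lift_fac _ s hsr, ← Category.assoc]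
  congr 1
  rw [← cancel_mono (f ∣_ U), ← cancel_mono U.ι]
  simp [h, hs]

variable [hne : Nonempty (Centre U)]

namespace Sys

variable (x : Sys U) {W : S.affineOpens} (hxW : ∀ I : Centre U, I.b (x.pt I) ∈ W.1)
  {K : CommRingCat.{u}} (ev : CommRingCat.of x.R ⟶ K)

/-- The point of a stage given by an evaluation. -/
abbrev τ (i : x.Idx) (hi : IsAffineOpen i.nhd) : Spec K ⟶ i.stage.T :=
  Spec.map (CommRingCat.ofHom (x.of i) ≫ ev) ≫ hi.fromSpec

theorem τ_b (i : x.Idx) (hi : IsAffineOpen i.nhd) (e : i.nhd ≤ i.stage.b ⁻¹ᵁ W.1) :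
    x.τ ev i hi ≫ i.stage.b = Spec.map (CommRingCat.ofHom (x.base hxW) ≫ ev) ≫ W.2.fromSpec := by
  rw [τ, Category.assoc, ← W.2.SpecMap_appLE_fromSpec i.stage.b hi e, ← Spec.map_comp_assoc, ← Category.assoc]
  congr 3
  exact CommRingCat.hom_ext (RingHom.ext fun c => x.of_appLE hxW i e c)

theorem τ_shrink (i : x.Idx) (hi : IsAffineOpen i.nhd) (V : i.stage.T.Opens) (hV : x.pt i.stage ∈ V)
    (hVaff : IsAffineOpen V) (h : V ≤ i.nhd) : x.τ ev (x.shrink i V hV) hVaff = x.τ ev i hi := by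
  rw [τ, τ, ← hi.map_fromSpec hVaff (homOfLE h).op, ← Spec.map_comp_assoc, ← Category.assoc]
  congr 3
  exact CommRingCat.hom_ext (RingHom.ext fun c => x.of_shrink i V hV h c)

theorem τ_mem_basicOpen {L : Type u} [Field L] (evL : x.R →+* L) (i : x.Idx) (hi : IsAffineOpen i.nhd)
    (c : Γ(i.stage.T, i.nhd)) :
    x.τ (CommRingCat.ofHom evL) i hi (IsLocalRing.closedPoint L) ∈ i.stage.T.basicOpen c ↔ evL (x.of i c) ≠ 0 := by
  rw [τ, Scheme.Hom.comp_apply]
  set g := CommRingCat.ofHom (x.of i) ≫ CommRingCat.ofHom evL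
  show Spec.map g (IsLocalRing.closedPoint L) ∈ hi.fromSpec ⁻¹ᵁ i.stage.T.basicOpen c ↔ _
  rw [hi.fromSpec_preimage_basicOpen, PrimeSpectrum.mem_basicOpen]
  refine not_congr ?_
  show evL (x.of i c) ∈ IsLocalRing.maximalIdeal L ↔ _
  rw [IsLocalRing.maximalIdeal_eq_bot, Ideal.mem_bot]

set_option maxHeartbeats 1600000 in
/-- A point of the closure of the part over `U` above the system is a specialisation of the one of the germ
evaluation. -/
theorem specializes_of_closure [IsIso (f ∣_ U)] (hs : s ≫ f = U.ι)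
    (w : ∀ I : Centre U, (pullback f I.b : Scheme.{u})) (hwt : ∀ {I J : Centre U} (h : I ≤ J), trP f h (w J) = w I)
    (hwc : ∀ I, w I ∈ closure (overU f I : Set (pullback f I.b : Scheme.{u})))
    (hx : ∀ I, pullback.snd f I.b (w I) = x.pt I) (hxU : ∀ I : Centre U, I.b (x.pt I) ∉ U)
    {L : Type u} [Field L] (evL : x.R →+* L) (hdiv : ∀ c d, evL c = 0 → evL d ≠ 0 → d ∣ c)
    (i : x.Idx) (hi : IsAffineOpen i.nhd) (ξ : Spec (CommRingCat.of L) ⟶ pullback f i.stage.b)
    (hξ : ξ ≫ pullback.snd f i.stage.b = x.τ (CommRingCat.ofHom evL) i hi)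
    (hξU : i.stage.b (x.τ (CommRingCat.ofHom evL) i hi (IsLocalRing.closedPoint L)) ∈ U) :
    ξ (IsLocalRing.closedPoint L) ⤳ w i.stage := by
  classical
  rw [specializes_iff_forall_open]
  intro O hO hwO
  by_contra hξO
  obtain ⟨V, e, hxV, hV, henzd, hegen⟩ := x.exists_small i i.stage le_rfl i.nhd i.mem
  let i' : x.Idx := x.shrink i V.1 hxV
  have hVi : V.1 ≤ i.nhd := hV.trans inf_le_right
  have hτ' : x.τ (CommRingCat.ofHom evL) i' V.2 = x.τ (CommRingCat.ofHom evL) i hi :=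
    x.τ_shrink _ i hi V.1 hxV V.2 hVi
  let snd := pullback.snd f i.stage.b
  obtain ⟨G, hG, hwG, hGle⟩ := exists_isAffineOpen_mem_and_subset (X := pullback f i.stage.b)
    (U := (⟨O, hO⟩ : (pullback f i.stage.b).Opens) ⊓ snd ⁻¹ᵁ V.1) (x := w i.stage)
    ⟨hwO, show snd (w i.stage) ∈ V.1 by rw [hx]; exact hxV⟩
  have hGV : G ≤ snd ⁻¹ᵁ V.1 := fun z hz => (hGle hz).2
  have hξG : ξ (IsLocalRing.closedPoint L) ∉ G := fun h => hξO (hGle h).1
  have hDe : i.stage.T.basicOpen e = V.1 ⊓ i.stage.b ⁻¹ᵁ U := Centre.basicOpen_eq hegen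
  have hτV : x.τ (CommRingCat.ofHom evL) i' V.2 (IsLocalRing.closedPoint L) ∈ V.1 := by
    rw [τ, Scheme.Hom.comp_apply]
    exact V.2.range_fromSpec.subset ⟨_, rfl⟩
  have he : evL (x.of i' e) ≠ 0 :=
    (x.τ_mem_basicOpen evL i' V.2 e).1 (hDe.ge ⟨hτV, show i.stage.b _ ∈ U by rw [hτ']; exact hξU⟩)
  -- the section over `U`
  let σ : (i.stage.b ⁻¹ᵁ U).toScheme ⟶ pullback f i.stage.b :=
    pullback.lift ((Piece.ofU hs i.stage).hom) (i.stage.b ⁻¹ᵁ U).ι (Piece.ofU hs i.stage).over'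
  have hσ : ∀ z : (i.stage.b ⁻¹ᵁ U).toScheme, ∀ z' : (overU f i.stage).toScheme,
      (snd ∣_ (i.stage.b ⁻¹ᵁ U)) z' = z → σ z = z'.1 := by
    intro z z' h
    subst h
    rw [← Scheme.Hom.comp_apply]
    have h1 : (snd ∣_ (i.stage.b ⁻¹ᵁ U)) ≫ σ = (overU f i.stage).ι := by
      apply pullback.hom_ext
      · rw [Category.assoc, pullback.lift_fst]
        show _ ≫ (i.stage.b ∣_ U) ≫ s = _
        rw [← Category.assoc]
        refine (eq_comp_section hs _ _ ?_).symm
        rw [Category.assoc, Category.assoc, morphismRestrict_ι, morphismRestrict_ι_assoc, pullback.condition]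
      · rw [Category.assoc, pullback.lift_snd, morphismRestrict_ι]
    rw [h1]
    rfl
  let OG : i.stage.T.Opens := (i.stage.b ⁻¹ᵁ U).ι ''ᵁ (σ ⁻¹ᵁ G)
  have hτOG : x.τ (CommRingCat.ofHom evL) i' V.2 (IsLocalRing.closedPoint L) ∉ OG := by
    rintro ⟨z, hz, hzτ⟩
    rw [hτ', ← hξ, Scheme.Hom.comp_apply] at hzτ
    have hmem : ξ (IsLocalRing.closedPoint L) ∈ overU f i.stage := by
      show snd (ξ (IsLocalRing.closedPoint L)) ∈ i.stage.b ⁻¹ᵁ U
      rw [show snd (ξ (IsLocalRing.closedPoint L)) = (i.stage.b ⁻¹ᵁ U).ι z from hzτ.symm]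
      exact z.2
    refine hξG ?_
    have h1 := hσ z ⟨_, hmem⟩ ((i.stage.b ⁻¹ᵁ U).ι.isOpenEmbedding.injective (by
      rw [← Scheme.Hom.comp_apply, morphismRestrict_ι]; exact hzτ.symm))
    have h2 : σ z ∈ G := hz
    rw [h1] at h2
    exact h2
  let φG := (snd.appLE V.1 G hGV).hom
  let C : Set Γ(i.stage.T, V.1) := {c | evL (x.of i' c) = 0}
  have hrad : ∃ N, φG e ^ N ∈ Ideal.span (φG '' C) := by
    suffices h : φG e ∈ (Ideal.span (φG '' C)).radical from h
    rw [Ideal.radical_eq_sInf, Submodule.mem_sInf]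
    rintro P ⟨hP, hPprime⟩
    by_contra heP
    let p : PrimeSpectrum Γ(pullback f i.stage.b, G) := ⟨P, hPprime⟩
    have hmem : ∀ c, hG.fromSpec p ∈ snd ⁻¹ᵁ i.stage.T.basicOpen c → φG c ∉ P := fun c hc => by
      have h1 : hG.fromSpec p ∈ (pullback f i.stage.b).basicOpen (φG c) := by
        show hG.fromSpec p ∈ (pullback f i.stage.b).basicOpen ((snd.appLE V.1 G hGV).hom c)
        rw [Scheme.Hom.appLE, CommRingCat.comp_apply, Scheme.basicOpen_res, ← Scheme.Hom.preimage_basicOpen]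
        exact ⟨hG.range_fromSpec.subset ⟨p, rfl⟩, hc⟩
      intro hcP
      have h2 : p ∈ hG.fromSpec ⁻¹ᵁ (pullback f i.stage.b).basicOpen (φG c) := h1
      rw [hG.fromSpec_preimage_basicOpen, PrimeSpectrum.mem_basicOpen] at h2
      exact h2 hcP
    have hpG : hG.fromSpec p ∈ G := hG.range_fromSpec.subset ⟨p, rfl⟩
    have h1 : hG.fromSpec p ∈ (pullback f i.stage.b).basicOpen (φG e) := by
      show p ∈ hG.fromSpec ⁻¹ᵁ (pullback f i.stage.b).basicOpen (φG e)
      rw [hG.fromSpec_preimage_basicOpen, PrimeSpectrum.mem_basicOpen]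
      exact heP
    change hG.fromSpec p ∈ (pullback f i.stage.b).basicOpen ((snd.appLE V.1 G hGV).hom e) at h1
    rw [Scheme.Hom.appLE, CommRingCat.comp_apply, Scheme.basicOpen_res, ← Scheme.Hom.preimage_basicOpen, hDe] at h1
    have hmemU : hG.fromSpec p ∈ overU f i.stage := h1.2.2
    let z : (i.stage.b ⁻¹ᵁ U).toScheme := ⟨snd (hG.fromSpec p), hmemU⟩
    have hz : z ∈ σ ⁻¹ᵁ G := by
      show σ z ∈ G
      rw [hσ z ⟨_, hmemU⟩ ((i.stage.b ⁻¹ᵁ U).ι.isOpenEmbedding.injective (by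
        rw [← Scheme.Hom.comp_apply, morphismRestrict_ι]; rfl))]
      exact hpG
    obtain ⟨c, hc, hzc⟩ := V.2.exists_basicOpen_le (⟨snd (hG.fromSpec p), z, hz, rfl⟩ : OG) (hGV hpG)
    refine hmem c hzc (hP (Ideal.subset_span ⟨c, ?_, rfl⟩))
    exact not_not.1 fun h => hτOG (hc ((x.τ_mem_basicOpen evL i' V.2 c).2 h))
  obtain ⟨N, hN⟩ := hrad
  obtain ⟨T, hTC, hT⟩ := Submodule.mem_span_finite_of_mem_span hN
  choose cf hcC hcf using fun t : T => hTC t.2
  choose d hd using fun t : T => hdiv (x.of i' (cf t)) (x.of i' e ^ (N + 1)) (hcC t)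
    (by rw [map_pow]; exact pow_ne_zero _ he)
  obtain ⟨j, hj, z, hz⟩ := x.exists_common i' d
  obtain ⟨k, hjk, hk⟩ := x.exists_eq (i := j) (fun t : T => map i' j hj (cf t))
    (fun t : T => map i' j hj e ^ (N + 1) * z t) (fun t => by
      rw [map_mul, map_pow, hz t, x.of_map, x.of_map]; exact hd t)
  let hik : i' ≤ k := hj.trans hjk
  let tr := trP f hik.1
  have htr : tr ≫ snd = pullback.snd f k.stage.b ≫ Centre.trans hik.1 := pullback.lift_snd _ _ _
  obtain ⟨G', hG', hwG', hG'le⟩ := exists_isAffineOpen_mem_and_subset (X := pullback f k.stage.b)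
    (U := tr ⁻¹ᵁ G ⊓ pullback.snd f k.stage.b ⁻¹ᵁ k.nhd) (x := w k.stage)
    ⟨show tr (w k.stage) ∈ G by rw [hwt]; exact hwG, show pullback.snd f k.stage.b (w k.stage) ∈ k.nhd by
      rw [hx]; exact k.mem⟩
  have hG'G : G' ≤ tr ⁻¹ᵁ G := fun y hy => (hG'le hy).1
  have hG'k : G' ≤ pullback.snd f k.stage.b ⁻¹ᵁ k.nhd := fun y hy => (hG'le hy).2
  let ψ := (tr.appLE G G' hG'G).hom
  let φ' := ((pullback.snd f k.stage.b).appLE k.nhd G' hG'k).hom
  have hψ : ∀ c, ψ (φG c) = φ' (map i' k hik c) := by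
    intro c
    have e1 := congr($(Scheme.Hom.appLE_comp_appLE tr snd V.1 G G' hGV hG'G) c)
    have e2 := congr($(Scheme.Hom.appLE_comp_appLE (pullback.snd f k.stage.b) (Centre.trans hik.1) V.1 k.nhd G'
      hik.2 hG'k) c)
    refine e1.trans (Eq.trans ?_ e2.symm)
    have key : ∀ (p q : pullback f k.stage.b ⟶ i.stage.T) (ep : G' ≤ p ⁻¹ᵁ V.1) (eq : G' ≤ q ⁻¹ᵁ V.1), p = q →
        p.appLE V.1 G' ep c = q.appLE V.1 G' eq c := by
      rintro p _ ep eq rfl
      rfl
    exact key _ _ _ _ htr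
  set E := ψ (φG e) with hE
  have hTmem : ∀ t : T, ψ (t : Γ(pullback f i.stage.b, G)) ∈ Ideal.span {E ^ (N + 1)} := fun t => by
    rw [← hcf t, hψ, Ideal.mem_span_singleton, hE, hψ]
    have h1 := hk t
    rw [map_mul, map_pow, DirectedSystem.map_map (f := fun i j h => ⇑(map (x := x) i j h)),
      DirectedSystem.map_map (f := fun i j h => ⇑(map (x := x) i j h))] at h1
    rw [h1, map_mul, map_pow]
    exact dvd_mul_right _ _
  have hEN : E ^ N ∈ Ideal.span {E ^ (N + 1)} := by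
    have h1 := Ideal.mem_map_of_mem ψ hT
    change ψ (φG e ^ N) ∈ Ideal.map ψ (Ideal.span (T : Set Γ(pullback f i.stage.b, G))) at h1
    rw [map_pow, Ideal.map_span] at h1
    refine Ideal.span_le.2 ?_ h1
    rintro _ ⟨t, ht, rfl⟩
    exact hTmem ⟨t, ht⟩
  obtain ⟨Y, hY⟩ := Ideal.mem_span_singleton'.1 hEN
  have hzero : E ^ N * (1 - Y * E) = 0 := by linear_combination -hY
  let P := pullback f k.stage.b
  have hEU : ∀ y ∈ G', y ∈ P.basicOpen E ↔ k.stage.b (pullback.snd f k.stage.b y) ∈ U := by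
    intro y hy
    show y ∈ P.basicOpen ((tr.appLE G G' hG'G).hom ((snd.appLE V.1 G hGV).hom e)) ↔ _
    rw [← CommRingCat.comp_apply, Scheme.Hom.appLE_comp_appLE, Scheme.Hom.appLE, CommRingCat.comp_apply,
      Scheme.basicOpen_res, ← Scheme.Hom.preimage_basicOpen, hDe]
    constructor
    · rintro ⟨-, -, h⟩
      change i.stage.b ((tr ≫ snd) y) ∈ U at h
      rwa [htr, Scheme.Hom.comp_apply, Centre.b_trans_apply] at h
    · intro h
      refine ⟨hy, hGV (hG'G hy), ?_⟩
      show i.stage.b ((tr ≫ snd) y) ∈ U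
      rwa [htr, Scheme.Hom.comp_apply, Centre.b_trans_apply]
  have hwE : w k.stage ∉ P.basicOpen E := fun h => hxU k.stage (hx k.stage ▸ (hEU _ hwG').1 h)
  have hw1 : w k.stage ∈ P.basicOpen (1 - Y * E) := by
    have h1 : w k.stage ∈ P.basicOpen (1 : Γ(P, G')) := by
      rw [P.basicOpen_of_isUnit isUnit_one]; exact hwG'
    rw [show (1 : Γ(P, G')) = (1 - Y * E) + Y * E by ring] at h1
    rcases Scheme.basicOpen_add_le (X := P) _ _ h1 with h | h
    · exact h
    · rw [Scheme.basicOpen_mul] at h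
      exact absurd h.2 hwE
  obtain ⟨y, hy₁, hy₂⟩ := mem_closure_iff.1 (hwc k.stage) _ (P.basicOpen (1 - Y * E)).2 hw1
  have hyE : y ∈ P.basicOpen E := (hEU y (P.basicOpen_le _ hy₁)).2 hy₂
  have hy₀ : y ∈ P.basicOpen (E ^ (N + 1) * (1 - Y * E)) := by
    rw [Scheme.basicOpen_mul, Scheme.basicOpen_pow _ _ N.succ_pos]
    exact ⟨hyE, hy₁⟩
  rw [pow_succ', mul_assoc, hzero, mul_zero, Scheme.basicOpen_zero] at hy₀
  exact hy₀

end Sys

end Groth.Agent.RZExt

namespace Groth.Agent.RZExt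

open CategoryTheory CategoryTheory.Limits AlgebraicGeometry

variable {S X : Scheme.{u}} {U : S.Opens} {f : X ⟶ S} {s : (U : Scheme.{u}) ⟶ X} [hne : Nonempty (Centre U)]

namespace Sys

variable (x : Sys U)

set_option maxHeartbeats 1600000 in
/-- A point of the closure above a system gives the lift of its valuative square. -/
theorem hasLift_of_closure [IsIso (f ∣_ U)] (hs : s ≫ f = U.ι)
    (w : ∀ I : Centre U, (pullback f I.b : Scheme.{u})) (hwt : ∀ {I J : Centre U} (h : I ≤ J), trP f h (w J) = w I)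
    (hwc : ∀ I, w I ∈ closure (overU f I : Set (pullback f I.b : Scheme.{u})))
    (hx : ∀ I, pullback.snd f I.b (w I) = x.pt I) (hxU : ∀ I : Centre U, I.b (x.pt I) ∉ U)
    (sq : ValuativeCommSq f) (hsq : x.IsGermSq f sq) : sq.commSq.HasLift := by
  classical
  obtain ⟨W, hW, hxW, ρ, hsurj, hloc, hdiv, hi₂, hU'⟩ := hsq
  let al : sq.R →+* sq.K := algebraMap sq.R sq.K
  have hal : Function.Injective al := IsFractionRing.injective sq.R sq.K
  let evL : x.R →+* sq.K := al.comp ρ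
  have hdiv' : ∀ c d, evL c = 0 → evL d ≠ 0 → d ∣ c := fun c d hc hd =>
    hdiv c d (hal (by rw [map_zero]; exact hc)) fun h => hd (by rw [RingHom.comp_apply, h, map_zero])
  let η : Spec (CommRingCat.of sq.K) := IsLocalRing.closedPoint sq.K
  have hsq₂ : Spec.map (CommRingCat.ofHom al) ≫ sq.i₂ =
      Spec.map (CommRingCat.ofHom (x.base (W := ⟨W, hW⟩) hxW) ≫ CommRingCat.ofHom evL) ≫ hW.fromSpec := by
    rw [hi₂, ← Spec.map_comp_assoc]
    rfl
  have hτ : ∀ (i : x.Idx) (hi : IsAffineOpen i.nhd), i.nhd ≤ i.stage.b ⁻¹ᵁ W →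
      sq.i₁ ≫ f = x.τ (CommRingCat.ofHom evL) i hi ≫ i.stage.b := fun i hi e => by
    rw [x.τ_b (W := ⟨W, hW⟩) hxW _ i hi e, sq.commSq.w]
    exact hsq₂
  have hspec : ∀ (i : x.Idx) (hi : IsAffineOpen i.nhd) (e : i.nhd ≤ i.stage.b ⁻¹ᵁ W),
      pullback.lift sq.i₁ (x.τ (CommRingCat.ofHom evL) i hi) (hτ i hi e) η ⤳ w i.stage := fun i hi e => by
    refine x.specializes_of_closure hs w hwt hwc hx hxU evL hdiv' i hi _ (pullback.lift_snd _ _ _) ?_
    rw [← Scheme.Hom.comp_apply, ← hτ i hi e, Scheme.Hom.comp_apply]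
    exact hU' _
  obtain ⟨V₀, hV₀, hxV₀, hV₀W⟩ := exists_isAffineOpen_mem_and_subset (X := hne.some.T)
    (U := hne.some.b ⁻¹ᵁ W) (x := x.pt hne.some) (hxW _)
  let i₀ : x.Idx := ⟨hne.some, V₀, hxV₀⟩
  let v := pullback.fst f i₀.stage.b (w i₀.stage)
  have hv : ∀ I : Centre U, pullback.fst f I.b (w I) = v := fun I => by
    show _ = pullback.fst f i₀.stage.b (w i₀.stage)
    rw [← hwt (Centre.le_mul_left I i₀.stage), ← hwt (Centre.le_mul_right I i₀.stage), ← Scheme.Hom.comp_apply,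
      ← Scheme.Hom.comp_apply, pullback.lift_fst, pullback.lift_fst]
  have hfv : f v ∈ W := by
    show f (pullback.fst f i₀.stage.b (w i₀.stage)) ∈ W
    rw [← Scheme.Hom.comp_apply, pullback.condition, Scheme.Hom.comp_apply, hx]
    exact hxW _
  obtain ⟨VX, hVX, hvV, hVXW⟩ := exists_isAffineOpen_mem_and_subset (X := X) (U := f ⁻¹ᵁ W) (x := v) hfv
  replace hVXW : VX ≤ f ⁻¹ᵁ W := hVXW
  have hηV : sq.i₁ η ∈ VX := by
    have h1 := (hspec i₀ hV₀ hV₀W).map (pullback.fst f i₀.stage.b).continuous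
    rw [← Scheme.Hom.comp_apply, pullback.lift_fst, hv] at h1
    exact h1.mem_open VX.2 hvV
  have hi₁r : Set.range sq.i₁ ⊆ Set.range hVX.fromSpec := by
    rw [hVX.range_fromSpec]
    exact range_subset_of_closedPoint (R := sq.K) sq.i₁ VX hηV
  obtain ⟨χ, hχ⟩ := Spec.map_surjective (IsOpenImmersion.lift hVX.fromSpec sq.i₁ hi₁r)
  have hχi : Spec.map χ ≫ hVX.fromSpec = sq.i₁ := by rw [hχ]; exact IsOpenImmersion.lift_fac _ _ _
  have hrange : ∀ β, χ.hom β ∈ al.range := by
    intro β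
    by_cases hne' : χ.hom β = 0
    · exact ⟨0, by rw [hne', map_zero]⟩
    rcases ValuationRing.isInteger_or_isInteger sq.R (χ.hom β) with ⟨o, ho⟩ | ⟨o, ho⟩
    · exact ⟨o, ho⟩
    · by_cases hou : IsUnit o
      · refine ⟨(hou.unit⁻¹ : sq.Rˣ), ?_⟩
        change al o = (χ.hom β)⁻¹ at ho
        rw [← inv_inv (χ.hom β), ← ho]
        refine eq_inv_of_mul_eq_one_left ?_
        rw [← map_mul, IsUnit.val_inv_mul, map_one]
      exfalso
      obtain ⟨y, rfl⟩ := hsurj o
      change evL y = (χ.hom β)⁻¹ at ho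
      obtain ⟨j₁, z₁, hz₁⟩ := x.exists_of y
      obtain ⟨j₂, hj₁, hj₀⟩ := exists_ge_ge j₁ i₀
      obtain ⟨V, hV, hxV, hVle⟩ := exists_isAffineOpen_mem_and_subset (X := j₂.stage.T)
        (U := j₂.nhd) (x := x.pt j₂.stage) j₂.mem
      let j : x.Idx := x.shrink j₂ V hxV
      have hj : j₁ ≤ j := hj₁.trans (x.le_shrink j₂ V hxV hVle)
      set z := map j₁ j hj z₁
      have hz : x.of j z = y := (x.of_map hj z₁).trans hz₁
      have hxz : x.pt j.stage ∉ j.stage.T.basicOpen z := fun h =>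
        hou ((hz ▸ x.isUnit_of_iff.2 h).map ρ)
      have hjW : j.nhd ≤ j.stage.b ⁻¹ᵁ W := fun p hp => by
        have h1 : i₀.stage.b (Centre.trans hj₀.1 p) ∈ W := hV₀W (hj₀.2 (hVle hp))
        rwa [Centre.b_trans_apply hj₀.1] at h1
      let ξ := pullback.lift sq.i₁ (x.τ (CommRingCat.ofHom evL) j hV) (hτ j hV hjW)
      let G : (pullback f j.stage.b).Opens := pullback.fst f j.stage.b ⁻¹ᵁ VX ⊓ pullback.snd f j.stage.b ⁻¹ᵁ j.nhd
      have hwG : w j.stage ∈ G := ⟨show pullback.fst f j.stage.b (w j.stage) ∈ VX by rw [hv]; exact hvV,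
        show pullback.snd f j.stage.b (w j.stage) ∈ j.nhd by rw [hx]; exact j.mem⟩
      have hξG : (⊤ : (Spec (CommRingCat.of sq.K)).Opens) ≤ ξ ⁻¹ᵁ G := fun p _ =>
        range_subset_of_closedPoint (R := sq.K) ξ G ((hspec j hV hjW).mem_open G.2 hwG) ⟨p, rfl⟩
      let β' := (pullback.fst f j.stage.b).appLE VX G inf_le_left β
      let z' := (pullback.snd f j.stage.b).appLE j.nhd G inf_le_right z
      have hb : (Scheme.ΓSpecIso (CommRingCat.of sq.K)).hom (ξ.appLE G ⊤ hξG β') = χ.hom β := by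
        show (Scheme.ΓSpecIso _).hom (ξ.appLE G ⊤ hξG ((pullback.fst f j.stage.b).appLE VX G inf_le_left β)) = _
        rw [← CommRingCat.comp_apply _ (ξ.appLE G ⊤ hξG), Scheme.Hom.appLE_comp_appLE]
        exact appLE_fromSpec hVX χ _ ((pullback.lift_fst _ _ _).trans hχi.symm) _ β
      have hy : (Scheme.ΓSpecIso (CommRingCat.of sq.K)).hom (ξ.appLE G ⊤ hξG z') = evL y := by
        show (Scheme.ΓSpecIso _).hom (ξ.appLE G ⊤ hξG ((pullback.snd f j.stage.b).appLE j.nhd G inf_le_right z)) = _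
        rw [← CommRingCat.comp_apply _ (ξ.appLE G ⊤ hξG), Scheme.Hom.appLE_comp_appLE]
        refine (appLE_fromSpec hV (CommRingCat.ofHom (x.of j) ≫ CommRingCat.ofHom evL) _
          (pullback.lift_snd _ _ _) _ z).trans ?_
        show evL (x.of j z) = evL y
        rw [hz]
      have hzero : ξ.appLE G ⊤ hξG (β' * z' - 1) = 0 := by
        apply (Scheme.ΓSpecIso (CommRingCat.of sq.K)).commRingCatIsoToRingEquiv.injective
        show (Scheme.ΓSpecIso _).hom (ξ.appLE G ⊤ hξG (β' * z' - 1)) = (Scheme.ΓSpecIso _).hom 0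
        rw [map_sub, map_mul, map_one, map_sub, map_mul, map_one, map_zero, hb, hy, ho, mul_inv_cancel₀ hne',
          sub_self]
      have hwz : w j.stage ∈ (pullback f j.stage.b).basicOpen (β' * z' - 1) := by
        have h1 : w j.stage ∈ (pullback f j.stage.b).basicOpen (-1 : Γ(pullback f j.stage.b, G)) := by
          rw [Scheme.basicOpen_of_isUnit _ isUnit_one.neg]; exact hwG
        rw [show (-1 : Γ(pullback f j.stage.b, G)) = (β' * z' - 1) + -(β' * z') by ring] at h1
        rcases Scheme.basicOpen_add_le _ _ _ h1 with h | h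
        · exact h
        · rw [← neg_mul, Scheme.basicOpen_mul] at h
          have h2 := h.2
          change w j.stage ∈ (pullback f j.stage.b).basicOpen
            ((pullback.snd f j.stage.b).appLE j.nhd G inf_le_right z) at h2
          rw [Scheme.Hom.appLE, CommRingCat.comp_apply, Scheme.basicOpen_res, ← Scheme.Hom.preimage_basicOpen] at h2
          have h3 : pullback.snd f j.stage.b (w j.stage) ∈ j.stage.T.basicOpen z := h2.2
          rw [hx] at h3
          exact absurd h3 hxz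
      have hξz := (hspec j hV hjW).mem_open ((pullback f j.stage.b).basicOpen (β' * z' - 1)).2 hwz
      have h4 : η ∈ (Spec (CommRingCat.of sq.K)).basicOpen (ξ.appLE G ⊤ hξG (β' * z' - 1)) := by
        rw [Scheme.Hom.appLE, CommRingCat.comp_apply, Scheme.basicOpen_res, ← Scheme.Hom.preimage_basicOpen]
        exact ⟨trivial, hξz⟩
      rw [hzero, Scheme.basicOpen_zero] at h4
      exact h4
  choose μ₀ hμ₀ using hrange
  let μ : Γ(X, VX) →+* sq.R :=
    { toFun := μ₀
      map_one' := hal (by rw [hμ₀, map_one, map_one])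
      map_mul' := fun p q => hal (by rw [map_mul, hμ₀, hμ₀, hμ₀, map_mul])
      map_zero' := hal (by rw [hμ₀, map_zero, map_zero])
      map_add' := fun p q => hal (by rw [map_add, hμ₀, hμ₀, hμ₀, map_add]) }
  have hμ : CommRingCat.ofHom μ ≫ CommRingCat.ofHom al = χ := CommRingCat.hom_ext (RingHom.ext hμ₀)
  refine ⟨⟨⟨Spec.map (CommRingCat.ofHom μ) ≫ hVX.fromSpec, ?_, ?_⟩⟩⟩
  · show Spec.map (CommRingCat.ofHom al) ≫ _ = _
    rw [← Spec.map_comp_assoc, hμ, hχi]
  · rw [Category.assoc, ← hW.SpecMap_appLE_fromSpec f hVX hVXW, hi₂, ← Spec.map_comp_assoc]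
    congr 2
    refine CommRingCat.hom_ext (RingHom.ext fun c => hal ?_)
    have h1 : Spec.map (f.appLE W VX hVXW ≫ χ) ≫ hW.fromSpec =
        Spec.map (CommRingCat.ofHom (x.base (W := ⟨W, hW⟩) hxW) ≫ CommRingCat.ofHom evL) ≫ hW.fromSpec := by
      rw [Spec.map_comp, Category.assoc, hW.SpecMap_appLE_fromSpec f hVX hVXW, ← Category.assoc, hχi,
        sq.commSq.w]
      exact hsq₂
    rw [cancel_mono] at h1
    exact (hμ₀ _).trans congr($(Spec.map_injective h1) c)

end Sys

set_option maxHeartbeats 1600000 in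
/-- On some blow-up the closure of the part over `U` lies over the domain of an extension. -/
theorem exists_closure_over_piece [CompactSpace S] [QuasiSeparatedSpace S] (hU : IsCompact (U : Set S))
    [QuasiCompact f] [IsSeparated f] [LocallyOfFiniteType f] [IsIso (f ∣_ U)] (hs : s ≫ f = U.ι) :
    ∃ (I : Centre U) (Q : Piece f s I), ∀ z ∈ closure (overU f I : Set (pullback f I.b : Scheme.{u})),
      pullback.snd f I.b z ∈ Q.nhd := by
  classical
  obtain ⟨I, hI⟩ : ∃ I : Centre U, ∀ z ∈ closure (overU f I : Set (pullback f I.b : Scheme.{u})),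
      ∃ P : Piece f s I, pullback.snd f I.b z ∈ P.nhd := by
    by_contra! hcon
    let B : ∀ I : Centre U, Set (pullback f I.b : Scheme.{u}) := fun I =>
      closure (overU f I : Set (pullback f I.b : Scheme.{u})) ∩
        (pullback.snd f I.b ⁻¹' ⋃ P : Piece f s I, (P.nhd : Set I.T))ᶜ
    obtain ⟨w, hw, hwt⟩ := exists_systemP hU B
      (fun I => isClosed_closure.inter
        ((isOpen_iUnion fun P : Piece f s I => P.nhd.2).preimage (pullback.snd f I.b).continuous).isClosed_compl)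
      (fun I => by
        obtain ⟨z, hz, hz'⟩ := hcon I
        exact ⟨z, hz, by simpa using hz'⟩)
      (fun {I J} h z hz => by
        have hsnd : pullback.snd f I.b (trP f h z) = Centre.trans h (pullback.snd f J.b z) := by
          rw [← Scheme.Hom.comp_apply, pullback.lift_snd, Scheme.Hom.comp_apply]
        refine ⟨map_mem_closure (trP f h).continuous hz.1 fun p hp => ?_, fun hmem => hz.2 ?_⟩
        · show I.b (pullback.snd f I.b (trP f h p)) ∈ U
          rw [← Scheme.Hom.comp_apply _ (pullback.snd f I.b), pullback.lift_snd, Scheme.Hom.comp_apply,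
            Centre.b_trans_apply]
          exact hp
        · obtain ⟨P, hP⟩ := Set.mem_iUnion.1 hmem
          refine Set.mem_iUnion.2 ⟨P.pull h, ?_⟩
          show Centre.trans h (pullback.snd f J.b z) ∈ P.nhd
          rw [← hsnd]
          exact hP)
    let x : Sys U := ⟨fun I => pullback.snd f I.b (w I), fun {I J} h => by
      show Centre.trans h (pullback.snd f J.b (w J)) = pullback.snd f I.b (w I)
      rw [← hwt h, ← Scheme.Hom.comp_apply, ← Scheme.Hom.comp_apply, pullback.lift_snd]⟩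
    have hxn : ∀ (I : Centre U) (P : Piece f s I), x.pt I ∉ P.nhd := fun I P h =>
      (hw I).2 (Set.mem_iUnion.2 ⟨P, h⟩)
    obtain ⟨I, P, hP⟩ := x.exists_piece' (W₁ := ⊤) s hs (fun sq hsq _ =>
      x.hasLift_of_closure hs w (fun h => hwt h) (fun I => (hw I).1) (fun I => rfl)
        (fun I h => hxn I (Piece.ofU hs I) h) sq hsq) trivial
    exact hxn I P hP
  let D : I.T.Opens := ⨆ P : Piece f s I, P.nhd
  obtain ⟨Q, hQ⟩ := Piece.exists_glue (f := f) (s := s) D (fun z hz => Opens.mem_iSup.1 hz)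
  refine ⟨I, Q, fun z hz => ?_⟩
  obtain ⟨P, hP⟩ := hI z hz
  rw [hQ]
  exact Opens.mem_iSup.2 ⟨P, hP⟩

end Groth.Agent.RZExt
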