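import Groth.Agent.BlowAmp.Chart

/-!
Charts of a blow-up over an affine open, with fractions.
-/

set_option autoImplicit false
set_option backward.isDefEq.respectTransparency false
set_option linter.style.haveILetI false

universe u

open CategoryTheory CategoryTheory.Limits AlgebraicGeometry TopologicalSpace

namespace Groth.Agent.RZExt

open Groth.Agent.BlowUpExist

variable {X X' : Scheme.{u}} {b : X' ⟶ X} {𝓘 : X.IdealSheafData}

theorem repr_opensRange (W : X.affineOpens) {R : Type u} [CommRing R]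
    (j : Spec (CommRingCat.of R) ⟶ X') [IsOpenImmersion j] (φ : Γ(X, W.1) →+* R)
    (hj : j ≫ b = Spec.map (CommRingCat.ofHom φ) ≫ W.2.fromSpec) (hG : j.opensRange ≤ b ⁻¹ᵁ W.1) :
    ∃ θ : Γ(X', j.opensRange) →+* R, Function.Bijective θ ∧
      ∀ c, θ (b.appLE W.1 j.opensRange hG c) = φ c := by
  have htop : (⊤ : (Spec (CommRingCat.of R)).Opens) ≤ j ⁻¹ᵁ j.opensRange := fun z _ => ⟨z, rfl⟩
  let θ := j.appLE j.opensRange ⊤ htop ≫ (Scheme.ΓSpecIso (CommRingCat.of R)).hom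
  haveI : IsIso (j.appLE j.opensRange ⊤ htop) := by
    have := Scheme.Hom.isIso_app j j.opensRange le_rfl
    have h : (⊤ : (Spec (CommRingCat.of R)).Opens) = j ⁻¹ᵁ j.opensRange :=
      (top_le_iff.mp htop).symm
    rw [Scheme.Hom.appLE]
    have : IsIso ((Spec (CommRingCat.of R)).presheaf.map (homOfLE htop).op) := by
      have : IsIso (homOfLE htop) := ⟨homOfLE h.ge, Subsingleton.elim _ _, Subsingleton.elim _ _⟩
      infer_instance
    infer_instance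
  refine ⟨θ.hom, ConcreteCategory.bijective_of_isIso θ, fun c => ?_⟩
  have e1 := congr($(Scheme.Hom.appLE_comp_appLE j b W.1 j.opensRange ⊤ hG htop) c)
  have e2 := QC.appLE_specMap_comp W.2.fromSpec (CommRingCat.ofHom φ) W.1
    (by rw [W.2.fromSpec_preimage_self]) _ hj (fun z _ => hG (htop (Set.mem_univ z))) c
  refine (congrArg (Scheme.ΓSpecIso (CommRingCat.of R)).hom e1).trans (e2.trans ?_)
  refine congrArg φ ?_
  rw [Scheme.Hom.appLE, W.2.fromSpec_app_self]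
  simp only [Category.assoc, ← Functor.map_comp, CommRingCat.comp_apply]
  simp

theorem exists_fracChart_aux (W : X.affineOpens) {R : Type u} [CommRing R] (φ : Γ(X, W.1) →+* R)
    (j : Spec (CommRingCat.of R) ⟶ X') [IsOpenImmersion j]
    (hj : j ≫ b = Spec.map (CommRingCat.ofHom φ) ≫ W.2.fromSpec) (α : Γ(X, W.1)) (hα : α ∈ 𝓘.ideal W)
    (hnzd : φ α ∈ nonZeroDivisors R) (hgen : (𝓘.ideal W).map φ = Ideal.span {φ α})
    (hrepr : ∀ r : R, ∃ n : ℕ, ∃ c ∈ 𝓘.ideal W ^ n, r * φ (α ^ n) = φ c)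
    (hG : j.opensRange ≤ b ⁻¹ᵁ W.1) {p : X'} (hp : p ∈ j.opensRange) :
    ∃ (G : X'.affineOpens) (hG : G.1 ≤ b ⁻¹ᵁ W.1) (α : Γ(X, W.1)), α ∈ 𝓘.ideal W ∧ p ∈ G.1 ∧
      b.appLE W.1 G.1 hG α ∈ nonZeroDivisors Γ(X', G.1) ∧
      (𝓘.comap b).ideal G = Ideal.span {b.appLE W.1 G.1 hG α} ∧
      ∀ r : Γ(X', G.1), ∃ k : ℕ, ∃ c ∈ 𝓘.ideal W ^ k, r * b.appLE W.1 G.1 hG α ^ k = b.appLE W.1 G.1 hG c := by
  obtain ⟨θ, hθ, key⟩ := repr_opensRange (b := b) W j φ hj hG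
  refine ⟨⟨j.opensRange, isAffineOpen_opensRange j⟩, hG, α, hα, hp, ?_, ?_, fun r => ?_⟩
  · rw [mem_nonZeroDivisors_iff_right]
    intro y hy
    refine hθ.1 ((mem_nonZeroDivisors_iff_right.mp hnzd (θ y) ?_).trans (map_zero θ).symm)
    rw [← key, ← map_mul, hy, map_zero]
  · exact BlowAmp.ideal_opensRange W j φ hj α hgen hG
  · obtain ⟨n, c, hc, hr⟩ := hrepr (θ r)
    exact ⟨n, c, hc, hθ.1 (by rw [key, map_mul, map_pow, key, ← map_pow, hr])⟩

theorem fromA_repr {A : Type u} [CommRing A] (I : Ideal A) (α : A) (hα : α ∈ I)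
    (r : HomogeneousLocalization.Away (Rees.deg (reesAlgebra I)) (tt I α hα)) :
    ∃ n : ℕ, ∃ c ∈ I ^ n, r * fromA I α hα (α ^ n) = fromA I α hα c := by
  obtain ⟨n, y, hy, rfl⟩ := HomogeneousLocalization.Away.mk_surjective (Rees.deg (reesAlgebra I)) (tt_mem I α hα) r
  refine ⟨n, ev1 I y, ?_, val_mul_pow I α hα n y hy⟩
  rw [eq_mono_of_mem I (show y ∈ Rees.deg (reesAlgebra I) n by simpa using hy), ev1_mono]
  exact coeff_mem I n y

/-- An affine chart around a point with a generator `α` and all functions of the form `c / α ^ k`, `c ∈ I ^ k`. -/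
theorem exists_fracChart (hb : BlowUp.IsBlowUp b 𝓘) (W : X.affineOpens) (x : X') (hx : b x ∈ W.1) :
    ∃ (G : X'.affineOpens) (hG : G.1 ≤ b ⁻¹ᵁ W.1) (α : Γ(X, W.1)), α ∈ 𝓘.ideal W ∧ x ∈ G.1 ∧
      b.appLE W.1 G.1 hG α ∈ nonZeroDivisors Γ(X', G.1) ∧
      (𝓘.comap b).ideal G = Ideal.span {b.appLE W.1 G.1 hG α} ∧
      ∀ r : Γ(X', G.1), ∃ k : ℕ, ∃ c ∈ 𝓘.ideal W ^ k, r * b.appLE W.1 G.1 hG α ^ k = b.appLE W.1 G.1 hG c := by
  obtain ⟨m, hm, hmr, hmb⟩ := BlowAmp.exists_model hb W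
  let I := 𝓘.ideal W
  obtain ⟨p, rfl⟩ : x ∈ Set.range m := hmr.symm.subset hx
  obtain ⟨α, hα, z, hz⟩ := exists_chart I p
  have hG : (chart I α hα ≫ m).opensRange ≤ b ⁻¹ᵁ W.1 := by
    rintro _ ⟨y, rfl⟩
    exact hmr.subset ⟨chart I α hα y, (Scheme.Hom.comp_apply _ _ _).symm⟩
  have hj : (chart I α hα ≫ m) ≫ b = Spec.map (CommRingCat.ofHom (fromA I α hα)) ≫ W.2.fromSpec := by
    rw [Category.assoc, hmb, ← Category.assoc, chart_structMap]
  exact exists_fracChart_aux W (fromA I α hα) (chart I α hα ≫ m) hj α hα (fromA_mem_nonZeroDivisors I α hα)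
    (map_fromA_eq I α hα) (fromA_repr I α hα) hG (p := m p) ⟨z, by rw [Scheme.Hom.comp_apply, hz]⟩

end Groth.Agent.RZExt
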