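import Groth.Agent.RZExt.Local

/-!
# Extension of sections of proper morphisms after admissible blow-ups
-/

set_option autoImplicit false
set_option linter.style.haveILetI false
set_option backward.isDefEq.respectTransparency false

universe u

open CategoryTheory CategoryTheory.Limits AlgebraicGeometry TopologicalSpace Topology

noncomputable section

namespace Groth.Agent.RZExt

variable {S X : Scheme.{u}} {U : S.Opens} {f : X ⟶ S} {s : (U : Scheme.{u}) ⟶ X}

namespace Piece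

/-- Pieces pull back along the transition maps. -/
def pull {I J : Centre U} (h : I ≤ J) (P : Piece f s I) : Piece f s J where
  nhd := Centre.trans h ⁻¹ᵁ P.nhd
  hom := (Centre.trans h ∣_ P.nhd) ≫ P.hom
  over' := by rw [Category.assoc, P.over', morphismRestrict_ι_assoc, Centre.trans_b]
  compat Y p q hpq := by
    rw [← Category.assoc]
    refine P.compat Y (p ≫ Centre.trans h ∣_ P.nhd) q ?_
    rw [hpq, Category.assoc, morphismRestrict_ι_assoc, Centre.trans_b]

theorem hom_eq [IsSeparated f] {I : Centre U} (P Q : Piece f s I) {Y : Scheme.{u}} (p : Y ⟶ P.nhd.toScheme)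
    (q : Y ⟶ Q.nhd.toScheme) [Flat p] (h : p ≫ P.nhd.ι = q ≫ Q.nhd.ι) : p ≫ P.hom = q ≫ Q.hom := by
  have hcart : BlowUp.IsEffCartierIdeal (I.ideal.comap (p ≫ P.nhd.ι ≫ I.b)) := by
    rw [Scheme.IdealSheafData.comap_comp, Scheme.IdealSheafData.comap_comp]
    exact BlowUpLib.cartier_comap_flat (BlowUpLib.cartier_comap_flat I.isBlowUp.1 _) _
  refine hom_ext_of_cartier _ hcart (by rw [Category.assoc, Category.assoc, P.over', Q.over', reassoc_of% h]) ?_
  set O := HTop.awayFrom (I.ideal.comap (p ≫ P.nhd.ι ≫ I.b))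
  have hr : Set.range (O.ι ≫ p ≫ P.nhd.ι ≫ I.b) ⊆ Set.range U.ι := by
    rintro _ ⟨z, rfl⟩
    rw [Scheme.Opens.range_ι, Scheme.Hom.comp_apply]
    by_contra hz
    refine z.2 ?_
    rw [Scheme.IdealSheafData.support_comap, Closeds.coe_preimage, I.supp]
    exact hz
  let r := IsOpenImmersion.lift U.ι (O.ι ≫ p ≫ P.nhd.ι ≫ I.b) hr
  rw [← Category.assoc, ← Category.assoc, P.compat _ (O.ι ≫ p) r (by
      rw [IsOpenImmersion.lift_fac, Category.assoc]),
    Q.compat _ (O.ι ≫ q) r (by rw [IsOpenImmersion.lift_fac, Category.assoc, reassoc_of% h])]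

end Piece

/-- Pieces around the points of an open glue to a piece on it. -/
theorem Piece.exists_glue [IsSeparated f] {I : Centre U} (D : I.T.Opens)
    (hD : ∀ z ∈ D, ∃ P : Piece f s I, z ∈ P.nhd) : ∃ Q : Piece f s I, Q.nhd = D := by
  classical
  choose P hP using fun z : D => hD z.1 z.2
  let 𝒰 : (D).toScheme.OpenCover :=
    (D).toScheme.openCoverOfIsOpenCover (fun z => (D).ι ⁻¹ᵁ (P z).nhd)
      (top_le_iff.1 fun z _ => Opens.mem_iSup.2 ⟨z, hP z⟩)
  let l : ∀ z : D, 𝒰.X z ⟶ (P z).nhd.toScheme := fun z => (D).ι ∣_ (P z).nhd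
  have hl : ∀ z, l z ≫ (P z).nhd.ι = 𝒰.f z ≫ (D).ι := fun z => morphismRestrict_ι _ _
  refine ⟨⟨D, 𝒰.glueMorphisms (fun z => l z ≫ (P z).hom) fun z z' => ?_, 𝒰.hom_ext _ _ fun z => ?_,
    fun Y p q hpq => ?_⟩, rfl⟩
  · rw [← Category.assoc, ← Category.assoc]
    haveI : IsOpenImmersion (pullback.fst (𝒰.f z) (𝒰.f z') ≫ l z) := inferInstance
    exact (P z).hom_eq (P z') _ _ (by rw [Category.assoc, Category.assoc, hl, hl, pullback.condition_assoc])
  · rw [Scheme.Cover.ι_glueMorphisms_assoc, Category.assoc, (P z).over', reassoc_of% hl z]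
  · refine Scheme.Cover.hom_ext (𝒰.pullback₁ p) _ _ fun z => ?_
    show pullback.fst p (𝒰.f z) ≫ _ = pullback.fst p (𝒰.f z) ≫ _
    rw [pullback.condition_assoc, Scheme.Cover.ι_glueMorphisms, ← Category.assoc,
      (P z).compat _ (pullback.snd p (𝒰.f z) ≫ l z) (pullback.fst p (𝒰.f z) ≫ q) (by
        rw [Category.assoc, hpq, Category.assoc, reassoc_of% hl z, pullback.condition_assoc]),
      Category.assoc]

/-- A section over `U` of a morphism which is proper over `W₁` extends over `W₁` on a blow-up in a centre. -/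
theorem exists_extension [CompactSpace S] [QuasiSeparatedSpace S] (hU : IsCompact (U : Set S))
    [IsSeparated f] [LocallyOfFiniteType f] (hs : s ≫ f = U.ι) {W₁ : S.Opens} (hW₁ : IsCompact (W₁ : Set S))
    (hval : ∀ sq : ValuativeCommSq f, Set.range sq.i₂ ⊆ (W₁ : Set S) → sq.commSq.HasLift) :
    ∃ (I : Centre U) (h : (I.b ⁻¹ᵁ W₁).toScheme ⟶ X), h ≫ f = (I.b ⁻¹ᵁ W₁).ι ≫ I.b ∧
      ∀ (Y : Scheme.{u}) (p : Y ⟶ (I.b ⁻¹ᵁ W₁).toScheme) (q : Y ⟶ U.toScheme),
        q ≫ U.ι = p ≫ (I.b ⁻¹ᵁ W₁).ι ≫ I.b → p ≫ h = q ≫ s := by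
  classical
  haveI hne := nonempty_centre U hU
  obtain ⟨I, hI⟩ : ∃ I : Centre U, ∀ z ∈ I.b ⁻¹ᵁ W₁, ∃ P : Piece f s I, z ∈ P.nhd := by
    by_contra! hcon
    let B : ∀ I : Centre U, Set I.T := fun I =>
      (I.b ⁻¹ᵁ W₁ : Set I.T) ∩ (⋃ P : Piece f s I, (P.nhd : Set I.T))ᶜ
    have hB : ∀ I, IsOpen[constructibleTopology I.T] (B I)ᶜ := fun I => by
      have h1 : IsOpen[constructibleTopology I.T] ((I.b ⁻¹ᵁ W₁ : Set I.T))ᶜ := by
        haveI : SpectralSpace I.T := {}
        exact (SpecSpLib.isClopen_of_isCompact (I.b ⁻¹ᵁ W₁).2 (I.b.isCompact_preimage hW₁)).2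
      simp only [B, Set.compl_inter, compl_compl]
      exact @IsOpen.union _ _ _ (constructibleTopology I.T) h1
        (ConsTop.isOpen_cons_of_isOpen (isOpen_iUnion fun P : Piece f s I => P.nhd.2))
    obtain ⟨pts, hpts, hcompat⟩ := exists_system hU B hB
      (fun I => by
        obtain ⟨z, hz, hz'⟩ := hcon I
        exact ⟨z, hz, by simpa using hz'⟩)
      (fun {I J} h z hz => by
        refine ⟨?_, fun hmem => hz.2 ?_⟩
        · show I.b (Centre.trans h z) ∈ W₁
          rw [Centre.b_trans_apply]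
          exact hz.1
        · obtain ⟨P, hP⟩ := Set.mem_iUnion.1 hmem
          exact Set.mem_iUnion.2 ⟨P.pull h, hP⟩)
    obtain ⟨I, P, hP⟩ := Sys.exists_piece s (⟨pts, fun {I J} h => hcompat h⟩ : Sys U) hs hval (hpts _).1
    exact (hpts I).2 (Set.mem_iUnion.2 ⟨P, hP⟩)
  obtain ⟨⟨D, h, h₁, h₂⟩, hQ⟩ := Piece.exists_glue (I.b ⁻¹ᵁ W₁) hI
  simp only at hQ
  subst hQ
  exact ⟨I, h, h₁, h₂⟩

/-- A morphism proper over an open satisfies the relative valuative criterion there. -/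
theorem hasLift_of_proper {W₁ : S.Opens} (f : X ⟶ W₁.toScheme) [IsProper f] (sq : ValuativeCommSq (f ≫ W₁.ι))
    (h : Set.range sq.i₂ ⊆ (W₁ : Set S)) : sq.commSq.HasLift := by
  let i₂ := IsOpenImmersion.lift W₁.ι sq.i₂ (by rwa [Scheme.Opens.range_ι])
  let sq' : ValuativeCommSq f :=
    { R := sq.R
      K := sq.K
      i₁ := sq.i₁
      i₂ := i₂
      commSq := ⟨by rw [← cancel_mono W₁.ι, Category.assoc, sq.commSq.w, Category.assoc, IsOpenImmersion.lift_fac]⟩ }
  have hex : ValuativeCriterion.Existence f := by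
    have h : (ValuativeCriterion ⊓ @QuasiCompact ⊓ @QuasiSeparated ⊓ @LocallyOfFiniteType : MorphismProperty Scheme) f :=
      IsProper.eq_valuativeCriterion ▸ ‹IsProper f›
    exact (ValuativeCriterion.iff.1 h.1.1.1).1
  obtain ⟨⟨⟨l, hl₁, hl₂⟩⟩⟩ := hex sq'
  exact ⟨⟨⟨l, hl₁, by rw [← Category.assoc, hl₂, IsOpenImmersion.lift_fac]⟩⟩⟩

end Groth.Agent.RZExt
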