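import Groth.Agent.RZExt.Key
import Groth.Agent.RZExt.Alg
import Groth.Agent.AlmostBlow.Basic
import Groth.Agent.ModPairFrac.Basic

/-!
# Extending a morphism near a point of the limit of the admissible blow-ups
-/

set_option autoImplicit false
set_option linter.style.haveILetI false
set_option backward.isDefEq.respectTransparency false
set_option backward.isDefEq.respectTransparency.types false

universe u

open CategoryTheory CategoryTheory.Limits AlgebraicGeometry TopologicalSpace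

noncomputable section

namespace Groth.Agent.RZExt

variable {S X : Scheme.{u}} {U : S.Opens} {f : X ⟶ S} (s : (U : Scheme.{u}) ⟶ X)

/-- An extension of `s` over an open of a blow-up. -/
structure Piece (f : X ⟶ S) (s : (U : Scheme.{u}) ⟶ X) (I : Centre U) where
  nhd : I.T.Opens
  hom : nhd.toScheme ⟶ X
  over' : hom ≫ f = nhd.ι ≫ I.b
  compat : ∀ (Y : Scheme.{u}) (p : Y ⟶ nhd.toScheme) (q : Y ⟶ U.toScheme),
    q ≫ U.ι = p ≫ nhd.ι ≫ I.b → p ≫ hom = q ≫ s

/-- Two morphisms agreeing off an effective Cartier divisor agree. -/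
theorem hom_ext_of_cartier {P : Scheme.{u}} [IsSeparated f] (𝓔 : P.IdealSheafData)
    (h𝓔 : BlowUp.IsEffCartierIdeal 𝓔) {a b : P ⟶ X} (hab : a ≫ f = b ≫ f)
    (h : (HTop.awayFrom 𝓔).ι ≫ a = (HTop.awayFrom 𝓔).ι ≫ b) : a = b := by
  let e := pullback.fst (pullback.lift a b hab) (pullback.diagonal f)
  have he : e ≫ a = e ≫ b := by
    have h1 := congrArg (· ≫ pullback.fst f f) (pullback.condition (f := pullback.lift a b hab) (g := pullback.diagonal f))
    have h2 := congrArg (· ≫ pullback.snd f f) (pullback.condition (f := pullback.lift a b hab) (g := pullback.diagonal f))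
    simp only [Category.assoc, pullback.lift_fst, pullback.lift_snd, pullback.diagonal_fst, pullback.diagonal_snd,
      Category.comp_id] at h1 h2
    exact h1.trans h2.symm
  let l : (HTop.awayFrom 𝓔).toScheme ⟶ pullback (pullback.lift a b hab) (pullback.diagonal f) :=
    pullback.lift (HTop.awayFrom 𝓔).ι ((HTop.awayFrom 𝓔).ι ≫ a) (by
      apply pullback.hom_ext <;> simp [h])
  have : IsIso e := ModPairFrac.isIso_of_factor e (U := HTop.awayFrom 𝓔)
    (AlmostBlow.supportedOn_eq_bot h𝓔) l (pullback.lift_fst _ _ _)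
  exact (cancel_epi e).1 he

/-- A range inside an open containing the image of the closed point. -/
theorem range_subset_of_closedPoint {R : Type u} [CommRing R] [IsLocalRing R] {Y : Scheme.{u}}
    (g : Spec (CommRingCat.of R) ⟶ Y) (O : Y.Opens) (h : g (IsLocalRing.closedPoint R) ∈ O) :
    Set.range g ⊆ (O : Set Y) := by
  rintro _ ⟨z, rfl⟩
  exact (IsLocalRing.specializes_closedPoint z).mem_open (O.2.preimage g.continuous) h

set_option maxHeartbeats 800000 in
/-- The morphism on a stage, from the equations of the generators. -/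
theorem exists_piece_of_eqs (hs : s ≫ f = U.ι) {W : S.Opens} (hW : IsAffineOpen W) {VX : X.Opens}
    (hVX : IsAffineOpen VX) (hVXW : VX ≤ f ⁻¹ᵁ W) {gens : Finset Γ(X, VX)}
    (hgens : ∀ T : Subring Γ(X, VX), (∀ v, (f.appLE W VX hVXW).hom v ∈ T) → (∀ β ∈ gens, β ∈ T) → T = ⊤)
    {c : Γ(S, W)} (hDU : Set.range (hW.basicOpen c).fromSpec ⊆ Set.range U.ι)
    (σ : Γ(X, VX) ⟶ Γ(S, S.basicOpen c))
    (hσs : Spec.map σ ≫ hVX.fromSpec = IsOpenImmersion.lift U.ι (hW.basicOpen c).fromSpec hDU ≫ s)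
    (hσA : σ.hom.comp (f.appLE W VX hVXW).hom = (S.presheaf.map (homOfLE (S.basicOpen_le c)).op).hom)
    (e : Γ(X, VX) → Γ(S, W)) (m : Γ(X, VX) → ℕ)
    (hσe : ∀ β, σ.hom β * (S.presheaf.map (homOfLE (S.basicOpen_le c)).op).hom c ^ m β =
      (S.presheaf.map (homOfLE (S.basicOpen_le c)).op).hom (e β))
    (I : Centre U) {V : I.T.Opens} (hkaff : IsAffineOpen V) (hkW : V ≤ I.b ⁻¹ᵁ W) {ak : Γ(I.T, V)}
    (hknzd : ak ∈ nonZeroDivisors Γ(I.T, V)) (hkU : I.T.basicOpen ak = V ⊓ I.b ⁻¹ᵁ U)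
    (hek' : ∃ (z : Γ(I.T, V)) (N : ℕ), I.b.appLE W V hkW c * z = ak ^ N)
    (hek : ∀ β ∈ gens, ∃ z : Γ(I.T, V), z * I.b.appLE W V hkW c ^ m β = I.b.appLE W V hkW (e β)) :
    ∃ P : Piece f s I, P.nhd = V := by
  let φk := I.b.appLE W V hkW
  let φA := (f.appLE W VX hVXW).hom
  let ιc := (S.presheaf.map (homOfLE (S.basicOpen_le c)).op).hom
  haveI := hW.isLocalization_basicOpen c
  have hDc := hW.basicOpen c
  have hιc : Spec.map (CommRingCat.ofHom ιc) ≫ hW.fromSpec = hDc.fromSpec := hW.map_fromSpec hDc _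
  -- the morphism on the stage
  have hDa := hkaff.basicOpen ak
  let ρa := (I.T.presheaf.map (homOfLE (I.T.basicOpen_le ak)).op).hom
  haveI := hkaff.isLocalization_basicOpen ak
  have hρa : Function.Injective ρa := IsLocalization.injective _ (M := Submonoid.powers ak)
    (Submonoid.powers_le.2 hknzd)
  have hcunit : IsUnit ((ρa.comp φk.hom) c) := by
    obtain ⟨z, N, hN⟩ := hek'
    have hu : IsUnit (ρa ak) := RingedSpace.isUnit_res_basicOpen I.T.toRingedSpace ak
    have h1 : IsUnit (ρa (φk c * z)) := by rw [hN, map_pow]; exact hu.pow N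
    rw [map_mul] at h1
    exact isUnit_of_mul_isUnit_left h1
  let θ : Γ(S, S.basicOpen c) →+* Γ(I.T, I.T.basicOpen ak) :=
    IsLocalization.Away.lift (S := Γ(S, S.basicOpen c)) c hcunit
  have hθ : θ.comp ιc = ρa.comp φk.hom := IsLocalization.Away.lift_comp _ _
  have hθA : (θ.comp σ.hom).comp φA = ρa.comp φk.hom := by rw [RingHom.comp_assoc, hσA, hθ]
  have hrange : ∀ β, (θ.comp σ.hom) β ∈ ρa.range := by
    have hT := hgens (Subring.comap (θ.comp σ.hom) ρa.range)
      (fun v => ⟨φk v, (congr($hθA v)).symm⟩) (fun β hβ => by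
        obtain ⟨zb, hzb⟩ := hek β hβ
        refine ⟨zb, ?_⟩
        refine ((hcunit.pow (m β)).mul_left_inj).1 ?_
        show ρa zb * ρa (φk c) ^ m β = θ (σ.hom β) * ρa (φk c) ^ m β
        rw [← map_pow, ← map_mul, hzb, map_pow]
        have h1 := congrArg θ (hσe β)
        rw [map_mul, map_pow, ← RingHom.comp_apply θ ιc, ← RingHom.comp_apply θ ιc, hθ] at h1
        exact h1.symm)
    exact fun β => (hT ▸ Subring.mem_top β : β ∈ Subring.comap (θ.comp σ.hom) ρa.range)
  choose φ₀ hφ₀ using hrange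
  let φ : Γ(X, VX) →+* Γ(I.T, V) :=
    { toFun := φ₀
      map_one' := hρa (by rw [hφ₀, map_one, map_one])
      map_mul' := fun u v => hρa (by rw [map_mul, hφ₀, hφ₀, hφ₀, map_mul])
      map_zero' := hρa (by rw [hφ₀, map_zero, map_zero])
      map_add' := fun u v => hρa (by rw [map_add, hφ₀, hφ₀, hφ₀, map_add]) }
  have hφ : ρa.comp φ = θ.comp σ.hom := RingHom.ext hφ₀
  have hφA : φ.comp φA = φk.hom := RingHom.ext fun v => hρa (by
    show (ρa.comp φ) (φA v) = _
    rw [hφ]
    exact congr($hθA v))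
  refine ⟨⟨V, hkaff.isoSpec.hom ≫ Spec.map (CommRingCat.ofHom φ) ≫ hVX.fromSpec, ?_, ?_⟩, rfl⟩
  · rw [Category.assoc, Category.assoc, ← hW.SpecMap_appLE_fromSpec f hVX hVXW, ← Spec.map_comp_assoc]
    rw [show f.appLE W VX hVXW ≫ CommRingCat.ofHom φ = φk from CommRingCat.hom_ext hφA,
      hW.SpecMap_appLE_fromSpec I.b hkaff hkW, ← Category.assoc, IsAffineOpen.isoSpec_hom_fromSpec]
  · intro Y p q' hpq
    have hpr : Set.range (p ≫ V.ι) ⊆ Set.range hDa.fromSpec := by
      rintro _ ⟨y, rfl⟩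
      rw [hDa.range_fromSpec, hkU]
      refine ⟨(p y).2, ?_⟩
      show I.b ((p ≫ V.ι) y) ∈ U
      rw [← Scheme.Hom.comp_apply, Category.assoc, ← hpq, Scheme.Hom.comp_apply]
      exact (q' y).2
    let p' := IsOpenImmersion.lift hDa.fromSpec (p ≫ V.ι) hpr
    have hp' : p' ≫ hDa.fromSpec = p ≫ V.ι := IsOpenImmersion.lift_fac _ _ _
    have hρspec : Spec.map (CommRingCat.ofHom ρa) ≫ hkaff.fromSpec = hDa.fromSpec := hkaff.map_fromSpec hDa _
    have hp : p ≫ hkaff.isoSpec.hom = p' ≫ Spec.map (CommRingCat.ofHom ρa) := by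
      rw [← cancel_mono hkaff.fromSpec, Category.assoc, Category.assoc, IsAffineOpen.isoSpec_hom_fromSpec,
        hρspec, hp']
    rw [reassoc_of% hp, ← Spec.map_comp_assoc, ← CommRingCat.ofHom_comp, hφ, CommRingCat.ofHom_comp,
      Spec.map_comp_assoc]
    show p' ≫ Spec.map (CommRingCat.ofHom θ) ≫ Spec.map σ ≫ hVX.fromSpec = _
    rw [hσs, ← Category.assoc, ← Category.assoc]
    congr 1
    rw [← cancel_mono U.ι, Category.assoc, Category.assoc, IsOpenImmersion.lift_fac, hpq, ← hιc,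
      ← Spec.map_comp_assoc, ← CommRingCat.ofHom_comp, hθ, CommRingCat.ofHom_comp, CommRingCat.ofHom_hom,
      Spec.map_comp_assoc, hW.SpecMap_appLE_fromSpec I.b hkaff hkW, reassoc_of% hρspec,
      ← Category.assoc, hp', Category.assoc]


namespace Sys

variable (x : Sys U) [hne : Nonempty (Centre U)]

/-- Finitely many germs live on a common index. -/
theorem exists_common {t : Type*} [Finite t] (i₀ : x.Idx) (r : t → x.R) :
    ∃ i, i₀ ≤ i ∧ ∃ z : t → Γ(i.stage.T, i.nhd), ∀ k, x.of i (z k) = r k := by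
  classical
  choose j z hz using fun k => x.exists_of (r k)
  obtain ⟨i, hi⟩ := Directed.finset_le (r := (· ≤ ·)) (f := id) directed_id
    (insert i₀ ((Set.finite_range j).toFinset))
  refine ⟨i, hi i₀ (Finset.mem_insert_self _ _), fun k => map (j k) i
    (hi (j k) (Finset.mem_insert_of_mem ((Set.finite_range j).mem_toFinset.2 ⟨k, rfl⟩))) (z k), fun k => ?_⟩
  rw [x.of_map, hz]

/-- Finitely many equalities of germs hold on a common index. -/
theorem exists_eq {t : Type*} [Finite t] {i : x.Idx} (z w : t → Γ(i.stage.T, i.nhd))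
    (h : ∀ k, x.of i (z k) = x.of i (w k)) : ∃ j, ∃ hij : i ≤ j, ∀ k, map i j hij (z k) = map i j hij (w k) := by
  classical
  choose l hl el using fun k => x.of_eq_iff.1 (h k)
  obtain ⟨j, hj⟩ := Directed.finset_le (r := (· ≤ ·)) (f := id) directed_id
    (insert i ((Set.finite_range l).toFinset))
  refine ⟨j, hj i (Finset.mem_insert_self _ _), fun k => ?_⟩
  have hlj : l k ≤ j := hj (l k) (Finset.mem_insert_of_mem ((Set.finite_range l).mem_toFinset.2 ⟨k, rfl⟩))
  rw [← DirectedSystem.map_map (f := fun i j h => ⇑(map (x := x) i j h)) (hl k) hlj, el k,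
    DirectedSystem.map_map (f := fun i j h => ⇑(map (x := x) i j h))]

/-- The base points of a system agree. -/
theorem base_pt_eq (I J : Centre U) : I.b (x.pt I) = J.b (x.pt J) := by
  rw [← x.compat (Centre.le_mul_left I J), Centre.b_trans_apply, ← x.compat (Centre.le_mul_right I J),
    Centre.b_trans_apply]

/-- The valuative squares attached to a system: the ring is a quotient of the ring of germs. -/
def IsGermSq (f : X ⟶ S) (sq : ValuativeCommSq f) : Prop :=
  ∃ (W : S.Opens) (hW : IsAffineOpen W) (hxW : ∀ I : Centre U, I.b (x.pt I) ∈ W) (ρ : x.R →+* sq.R),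
    Function.Surjective ρ ∧ IsLocalHom ρ ∧ (∀ c d, ρ c = 0 → ρ d ≠ 0 → d ∣ c) ∧
    sq.i₂ = Spec.map (CommRingCat.ofHom (ρ.comp (x.base (W := ⟨W, hW⟩) hxW))) ≫ hW.fromSpec ∧
    ∀ y, f (sq.i₁ y) ∈ U

set_option maxHeartbeats 800000 in
theorem exists_piece' [CompactSpace S] [QuasiSeparatedSpace S] [LocallyOfFiniteType f] (hs : s ≫ f = U.ι)
    {W₁ : S.Opens} (hval : ∀ sq : ValuativeCommSq f, x.IsGermSq f sq → Set.range sq.i₂ ⊆ (W₁ : Set S) →
      sq.commSq.HasLift)
    (hx₁ : hne.some.b (x.pt hne.some) ∈ W₁) :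
    ∃ (I : Centre U) (P : Piece f s I), x.pt I ∈ P.nhd := by
  classical
  obtain ⟨W, hW, hxW₀, hWW₁⟩ := exists_isAffineOpen_mem_and_subset (X := S) (U := W₁) hx₁
  have hxW : ∀ I : Centre U, I.b (x.pt I) ∈ W := fun I => by rw [x.base_pt_eq I hne.some]; exact hxW₀
  let W' : S.affineOpens := ⟨W, hW⟩
  obtain ⟨G₀, hxG₀, hG₀W, a₀, -, ha₀⟩ :=
    BlowUpLib.exists_small_generator hne.some.isBlowUp.1 (show x.pt hne.some ∈ hne.some.b ⁻¹ᵁ W from hxW _)
  let i₀ : x.Idx := ⟨hne.some, G₀.1, hxG₀⟩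
  let a : x.R := x.of i₀ a₀
  have hpair : ∀ (n : ℕ) (p q : x.R), a ^ n ∈ Ideal.span {p, q} → p ∣ q ∨ q ∣ p := fun n p q =>
    x.dvd_or_dvd (W := W') hxW (i₀ := i₀) G₀.2 hG₀W ha₀ n p q
  have hanzd : a ∈ nonZeroDivisors x.R := x.of_mem_nonZeroDivisors (W := W') (i₀ := i₀) G₀.2 hG₀W ha₀
  let Ra := Localization.Away a
  let al := algebraMap x.R Ra
  have hinj : Function.Injective al := IsLocalization.injective Ra
    (M := Submonoid.powers a) (Submonoid.powers_le.2 hanzd)
  haveI : Nontrivial Ra := hinj.nontrivial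
  haveI : IsLocalRing Ra := isLocalRing_away hpair Ra
  let base := x.base (W := W') hxW
  let ψ : Γ(S, W) →+* Ra := al.comp base
  let cp : ↥(Spec (CommRingCat.of Ra)) := IsLocalRing.closedPoint Ra
  let g₀ : Spec (CommRingCat.of Ra) ⟶ S := Spec.map (CommRingCat.ofHom ψ) ≫ hW.fromSpec
  -- the closed point maps into `U`
  have hg₀ : g₀ cp ∈ U := by
    have hmap : (hne.some.ideal.ideal W').map ψ = ⊤ := by
      rw [← Ideal.map_map, ← show (x.of i₀).comp (hne.some.b.appLE W G₀.1 hG₀W).hom = base from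
        RingHom.ext fun c => x.of_appLE (W := W') hxW i₀ hG₀W c, ← Ideal.map_map,
        ← FpqcDescent.ideal_comap_appLE hne.some.ideal hne.some.b W' G₀ hG₀W, ha₀, Ideal.map_span,
        Set.image_singleton, Ideal.map_span, Set.image_singleton, Ideal.span_singleton_eq_top]
      exact IsLocalization.map_units Ra (⟨a, Submonoid.mem_powers a⟩ : Submonoid.powers a)
    obtain ⟨c, hc, hcu⟩ : ∃ c ∈ hne.some.ideal.ideal W', IsUnit (ψ c) := by
      by_contra! hcon
      exact (IsLocalRing.maximalIdeal.isMaximal Ra).ne_top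
        (top_le_iff.1 (hmap.ge.trans (Ideal.map_le_iff_le_comap.2 fun c hc => hcon c hc)))
    rw [Scheme.Hom.comp_apply]
    set z := Spec.map (CommRingCat.ofHom ψ) cp
    have hzc : hW.fromSpec z ∈ S.basicOpen c := by
      show z ∈ hW.fromSpec ⁻¹ᵁ S.basicOpen c
      rw [hW.fromSpec_preimage_basicOpen, PrimeSpectrum.mem_basicOpen]
      exact fun hmem => (IsLocalRing.closedPoint Ra).isPrime.ne_top (Ideal.eq_top_of_isUnit_mem _ hmem hcu)
    have h1 : hW.fromSpec z ∉ hne.some.ideal.support := fun hsupp => by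
      rw [Scheme.IdealSheafData.mem_support_iff_of_mem (U := W') (S.basicOpen_le c hzc),
        Scheme.mem_zeroLocus_iff] at hsupp
      exact hsupp c hc hzc
    rw [← SetLike.mem_coe, hne.some.supp] at h1
    exact not_not.1 h1
  have hgU : Set.range g₀ ⊆ Set.range U.ι := by
    rw [Scheme.Opens.range_ι]
    exact range_subset_of_closedPoint g₀ U hg₀
  let g : Spec (CommRingCat.of Ra) ⟶ U.toScheme := IsOpenImmersion.lift U.ι g₀ hgU
  have hg : g ≫ U.ι = g₀ := IsOpenImmersion.lift_fac _ _ _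
  let q := g ≫ s
  have hq : q ≫ f = g₀ := by rw [Category.assoc, hs, hg]
  -- the valuative square
  let O := valRing hpair Ra
  let res₁ := IsLocalRing.residue Ra
  let ρ : x.R →+* O := valMap hpair Ra
  let sq : ValuativeCommSq f :=
    { R := O
      K := IsLocalRing.ResidueField Ra
      i₁ := Spec.map (CommRingCat.ofHom res₁) ≫ q
      i₂ := Spec.map (CommRingCat.ofHom (ρ.comp base)) ≫ hW.fromSpec
      commSq := ⟨by
        rw [Category.assoc, hq, ← Category.assoc, ← Category.assoc, ← Spec.map_comp, ← Spec.map_comp,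
          ← CommRingCat.ofHom_comp, ← CommRingCat.ofHom_comp]
        rfl⟩ }
  have hi₂ : Set.range sq.i₂ ⊆ (W₁ : Set S) := by
    rintro _ ⟨y, rfl⟩
    rw [Scheme.Hom.comp_apply]
    exact hWW₁ (hW.range_fromSpec.subset ⟨_, rfl⟩)
  have hgerm : x.IsGermSq f sq := by
    refine ⟨W, hW, hxW, valMap hpair Ra, valMap_surjective hpair Ra, isLocalHom_valMap hpair Ra,
      valMap_dvd hpair Ra hinj, rfl, ?_⟩
    intro y
    show f ((Spec.map (CommRingCat.ofHom res₁) ≫ q) y) ∈ U
    rw [← Scheme.Hom.comp_apply, Category.assoc, hq, Scheme.Hom.comp_apply]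
    exact range_subset_of_closedPoint g₀ U hg₀ ⟨_, rfl⟩
  obtain ⟨⟨⟨l, hl₁, hl₂⟩⟩⟩ := hval sq hgerm hi₂
  obtain ⟨VX, hVX, hlV, hVXW⟩ := exists_isAffineOpen_mem_and_subset (X := X) (U := f ⁻¹ᵁ W)
    (x := l (IsLocalRing.closedPoint O)) (by
      show f (l (IsLocalRing.closedPoint O)) ∈ W
      rw [← Scheme.Hom.comp_apply, hl₂, Scheme.Hom.comp_apply]
      exact hW.range_fromSpec.subset ⟨_, rfl⟩)
  replace hVXW : VX ≤ f ⁻¹ᵁ W := hVXW
  have hlr : Set.range l ⊆ Set.range hVX.fromSpec := by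
    rw [hVX.range_fromSpec]; exact range_subset_of_closedPoint (R := O) l VX hlV
  have hqr : Set.range q ⊆ Set.range hVX.fromSpec := by
    rw [hVX.range_fromSpec]
    refine range_subset_of_closedPoint (R := Ra) q VX ?_
    have h1 : q cp =
        l (Spec.map (CommRingCat.ofHom (algebraMap O (IsLocalRing.ResidueField Ra)))
          (IsLocalRing.closedPoint (IsLocalRing.ResidueField Ra))) := by
      rw [← Scheme.Hom.comp_apply, hl₁, Scheme.Hom.comp_apply]
      exact congrArg q (IsLocalRing.comap_closedPoint res₁).symm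
    rw [h1]
    have h2 : Set.range l ⊆ (VX : Set X) := range_subset_of_closedPoint (R := O) l VX hlV
    exact h2 ⟨_, rfl⟩
  obtain ⟨χ, hχ⟩ := Spec.map_surjective (IsOpenImmersion.lift hVX.fromSpec q hqr)
  have hχq : Spec.map χ ≫ hVX.fromSpec = q := by rw [hχ]; exact IsOpenImmersion.lift_fac _ _ _
  obtain ⟨μ, hμ⟩ := Spec.map_surjective (IsOpenImmersion.lift hVX.fromSpec l hlr)
  have hμl : Spec.map μ ≫ hVX.fromSpec = l := by rw [hμ]; exact IsOpenImmersion.lift_fac _ _ _
  have hχμ : ∀ β, res₁ (χ.hom β) ∈ O := fun β => by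
    have h1 : Spec.map (χ ≫ CommRingCat.ofHom res₁) ≫ hVX.fromSpec =
        Spec.map (μ ≫ CommRingCat.ofHom (algebraMap O (IsLocalRing.ResidueField Ra))) ≫ hVX.fromSpec := by
      rw [Spec.map_comp, Spec.map_comp, Category.assoc, Category.assoc, hχq, hμl]
      exact hl₁.symm
    rw [cancel_mono] at h1
    have h2 := congr($(Spec.map_injective h1) β)
    exact h2 ▸ (μ.hom β).2
  let φA := (f.appLE W VX hVXW).hom
  have hχA : χ.hom.comp φA = ψ := by
    have h1 : Spec.map (f.appLE W VX hVXW ≫ χ) ≫ hW.fromSpec = Spec.map (CommRingCat.ofHom ψ) ≫ hW.fromSpec := by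
      rw [Spec.map_comp, Category.assoc, hW.SpecMap_appLE_fromSpec f hVX hVXW, ← Category.assoc, hχq]
      exact hq
    rw [cancel_mono] at h1
    exact congrArg CommRingCat.Hom.hom (Spec.map_injective h1)
  choose r hr using fun β => mem_range_of_residue_mem hpair Ra (χ.hom β) (hχμ β)
  obtain ⟨gens, hgens⟩ : ∃ t : Finset Γ(X, VX), ∀ T : Subring Γ(X, VX),
      (∀ c, φA c ∈ T) → (∀ β ∈ t, β ∈ T) → T = ⊤ := by
    algebraize [φA]
    haveI : Algebra.FiniteType Γ(S, W) Γ(X, VX) := f.finiteType_appLE hW hVX hVXW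
    obtain ⟨t, ht⟩ := (Algebra.FiniteType.out : (⊤ : Subalgebra Γ(S, W) Γ(X, VX)).FG)
    refine ⟨t, fun T hT ht' => ?_⟩
    suffices h : ∀ β, β ∈ Algebra.adjoin Γ(S, W) (t : Set Γ(X, VX)) → β ∈ T from
      top_le_iff.1 fun β _ => h β (ht ▸ Algebra.mem_top)
    intro β hβ
    induction hβ using Algebra.adjoin_induction with
    | mem β hβ => exact ht' β hβ
    | algebraMap c => exact hT c
    | add _ _ _ _ h h' => exact add_mem h h'
    | mul _ _ _ _ h h' => exact mul_mem h h'
  -- a basic open of the base around the image of the closed point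
  let O' : S.Opens := U.ι ''ᵁ (s ⁻¹ᵁ VX)
  have hO' : g₀ cp ∈ O' := by
    refine ⟨g cp, ?_, (Scheme.Hom.comp_apply g U.ι cp).symm.trans (congrArg (fun k : Spec (CommRingCat.of Ra) ⟶ S => k cp) hg)⟩
    show s (g cp) ∈ VX
    rw [← Scheme.Hom.comp_apply]
    exact hVX.range_fromSpec.subset (hqr ⟨_, rfl⟩)
  have hg₀W : g₀ cp ∈ W := by
    rw [Scheme.Hom.comp_apply]
    exact hW.range_fromSpec.subset ⟨_, rfl⟩
  obtain ⟨c, hcO, hc⟩ := hW.exists_basicOpen_le ⟨_, hO'⟩ hg₀W
  have hcu : IsUnit (ψ c) := by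
    by_contra hnu
    have h1 : Spec.map (CommRingCat.ofHom ψ) cp ∈ hW.fromSpec ⁻¹ᵁ S.basicOpen c := by
      show hW.fromSpec _ ∈ S.basicOpen c
      exact (Scheme.Hom.comp_apply (Spec.map (CommRingCat.ofHom ψ)) hW.fromSpec cp) ▸ hc
    rw [hW.fromSpec_preimage_basicOpen, PrimeSpectrum.mem_basicOpen] at h1
    exact h1 hnu
  have hDc := hW.basicOpen c
  have hcO' : Set.range hDc.fromSpec ⊆ Set.range U.ι := by
    rw [hDc.range_fromSpec, Scheme.Opens.range_ι]
    exact fun z hz => U.ι_image_le _ (hcO hz)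
  let ιc := (S.presheaf.map (homOfLE (S.basicOpen_le c)).op).hom
  have hιc : Spec.map (CommRingCat.ofHom ιc) ≫ hW.fromSpec = hDc.fromSpec := hW.map_fromSpec hDc _
  have hDU : Set.range hDc.fromSpec ⊆ Set.range U.ι := by
    rw [hDc.range_fromSpec, Scheme.Opens.range_ι]
    exact fun z hz => U.ι_image_le _ (hcO hz)
  let sD : Spec Γ(S, S.basicOpen c) ⟶ X := IsOpenImmersion.lift U.ι hDc.fromSpec hDU ≫ s
  have hsDr : Set.range sD ⊆ Set.range hVX.fromSpec := by
    rw [hVX.range_fromSpec]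
    rintro _ ⟨z, rfl⟩
    obtain ⟨w, hw, hwz⟩ := hcO (hDc.range_fromSpec.subset ⟨z, rfl⟩)
    have h1 : IsOpenImmersion.lift U.ι hDc.fromSpec hDU z = w := U.ι.isOpenEmbedding.injective (by
      rw [← Scheme.Hom.comp_apply, IsOpenImmersion.lift_fac]; exact hwz.symm)
    rw [Scheme.Hom.comp_apply, h1]
    exact hw
  obtain ⟨σ, hσ⟩ := Spec.map_surjective (IsOpenImmersion.lift hVX.fromSpec sD hsDr)
  have hσs : Spec.map σ ≫ hVX.fromSpec = sD := by rw [hσ]; exact IsOpenImmersion.lift_fac _ _ _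
  have hσA : σ.hom.comp φA = ιc := by
    have h1 : Spec.map (f.appLE W VX hVXW ≫ σ) ≫ hW.fromSpec = Spec.map (CommRingCat.ofHom ιc) ≫ hW.fromSpec := by
      rw [Spec.map_comp, Category.assoc, hW.SpecMap_appLE_fromSpec f hVX hVXW, ← Category.assoc, hσs,
        Category.assoc, hs, IsOpenImmersion.lift_fac, hιc]
    rw [cancel_mono] at h1
    exact congrArg CommRingCat.Hom.hom (Spec.map_injective h1)
  haveI := hW.isLocalization_basicOpen c
  let γ : Γ(S, S.basicOpen c) →+* Ra := IsLocalization.Away.lift (S := Γ(S, S.basicOpen c)) c hcu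
  have hγ : γ.comp ιc = ψ := IsLocalization.Away.lift_comp _ _
  have hγσ : γ.comp σ.hom = χ.hom := by
    have hγD : Spec.map (CommRingCat.ofHom γ) ≫ hDc.fromSpec = g₀ := by
      rw [← hιc, ← Category.assoc, ← Spec.map_comp, ← CommRingCat.ofHom_comp, hγ]
    have h1 : Spec.map (σ ≫ CommRingCat.ofHom γ) ≫ hVX.fromSpec = Spec.map χ ≫ hVX.fromSpec := by
      rw [Spec.map_comp, Category.assoc, hσs, hχq, ← Category.assoc]
      congr 1
      rw [← cancel_mono U.ι, Category.assoc, IsOpenImmersion.lift_fac, hγD, hg]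
    rw [cancel_mono] at h1
    exact congrArg CommRingCat.Hom.hom (Spec.map_injective h1)
  -- equations in the ring of germs
  have hsurj : ∀ β : Γ(X, VX), ∃ (e : Γ(S, W)) (m : ℕ), σ.hom β * ιc c ^ m = ιc e ∧
      r β * base c ^ m = base e := fun β => by
    obtain ⟨⟨e, ⟨_, m, rfl⟩⟩, he⟩ := IsLocalization.surj (Submonoid.powers c) (σ.hom β)
    rw [map_pow] at he
    refine ⟨e, m, he, hinj ?_⟩
    have h1 := congrArg γ he
    rw [map_mul, map_pow, ← RingHom.comp_apply γ σ.hom, hγσ, ← RingHom.comp_apply γ (algebraMap _ _) c,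
      ← RingHom.comp_apply γ (algebraMap _ _) e] at h1
    erw [hγ] at h1
    rw [map_mul, map_pow, hr β]
    exact h1
  choose e m hσe he using hsurj
  obtain ⟨d, N, hd⟩ : ∃ (d : x.R) (N : ℕ), base c * d = a ^ N := by
    obtain ⟨y, hy⟩ := hcu.exists_right_inv
    obtain ⟨d, ⟨_, N, rfl⟩, rfl⟩ := IsLocalization.exists_mk'_eq (Submonoid.powers a) y
    refine ⟨d, N, hinj ?_⟩
    have h1 := IsLocalization.mk'_spec Ra d (⟨a ^ N, N, rfl⟩ : Submonoid.powers a)
    have hy' : al (base c) * IsLocalization.mk' Ra d (⟨a ^ N, N, rfl⟩ : Submonoid.powers a) = 1 := hy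
    rw [map_mul, ← h1, ← mul_assoc, hy', one_mul]
  -- descend to a stage
  obtain ⟨i, hi, z, hz⟩ := x.exists_common i₀ (Option.elim' d fun β : gens => r β)
  have heW : ∀ {j : x.Idx}, i₀ ≤ j → j.nhd ≤ j.stage.b ⁻¹ᵁ W := fun {j} hj y hy => by
    have h1 : i₀.stage.b (Centre.trans hj.1 y) ∈ W := hG₀W (hj.2 hy)
    rwa [Centre.b_trans_apply hj.1] at h1
  let φi := i.stage.b.appLE W i.nhd (heW hi)
  obtain ⟨i', hii', heq⟩ := x.exists_eq
    (Option.elim' (φi c * z none) fun β : gens => z (some β) * φi c ^ m β)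
    (Option.elim' (map i₀ i hi a₀ ^ N) fun β : gens => φi (e β)) (fun k => by
      cases k with
      | none =>
        simp only [Option.elim']
        rw [map_mul, map_pow, hz none, x.of_map, x.of_appLE (W := W') hxW]
        exact hd
      | some β =>
        simp only [Option.elim']
        rw [map_mul, map_pow, hz (some β), x.of_appLE (W := W') hxW, x.of_appLE (W := W') hxW]
        exact he β)
  obtain ⟨k, hk, hkaff, hkW, hknzd, hkU⟩ :=
    x.exists_nice (W := W') (i₀ := i₀) G₀.2 hG₀W ha₀ i' (hi.trans hii')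
  set ak := map i₀ k ((hi.trans hii').trans hk) a₀
  let φk := k.stage.b.appLE W k.nhd hkW
  have hmap : ∀ v, map i' k hk (map i i' hii' (φi v)) = φk v := fun v => by
    rw [DirectedSystem.map_map (f := fun i j h => ⇑(map (x := x) i j h))]
    exact x.map_app (W := W') (hii'.trans hk) (heW hi) hkW v
  have hak : map i' k hk (map i i' hii' (map i₀ i hi a₀)) = ak := by
    rw [DirectedSystem.map_map (f := fun i j h => ⇑(map (x := x) i j h)),
      DirectedSystem.map_map (f := fun i j h => ⇑(map (x := x) i j h))]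
  let zk : Option gens → Γ(k.stage.T, k.nhd) := fun o => map i' k hk (map i i' hii' (z o))
  have hek : ∀ β : gens, zk (some β) * φk c ^ m β = φk (e β) := fun β => by
    have h1 := congrArg (map i' k hk) (heq (some β))
    simp only [Option.elim', map_mul, map_pow] at h1
    rwa [hmap, hmap] at h1
  have hek' : φk c * zk none = ak ^ N := by
    have h1 := congrArg (map i' k hk) (heq none)
    simp only [Option.elim', map_mul, map_pow] at h1
    rwa [hmap, hak] at h1
  obtain ⟨P, hP⟩ := exists_piece_of_eqs (f := f) s hs hW hVX hVXW hgens hcO' σ hσs hσA e m hσe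
    k.stage hkaff hkW (ak := ak) hknzd hkU ⟨zk none, N, hek'⟩ (fun β hβ => ⟨zk (some ⟨β, hβ⟩), hek ⟨β, hβ⟩⟩)
  exact ⟨k.stage, P, hP ▸ k.mem⟩

theorem exists_piece [CompactSpace S] [QuasiSeparatedSpace S] [LocallyOfFiniteType f] (hs : s ≫ f = U.ι)
    {W₁ : S.Opens} (hval : ∀ sq : ValuativeCommSq f, Set.range sq.i₂ ⊆ (W₁ : Set S) → sq.commSq.HasLift)
    (hx₁ : hne.some.b (x.pt hne.some) ∈ W₁) :
    ∃ (I : Centre U) (P : Piece f s I), x.pt I ∈ P.nhd :=
  x.exists_piece' s hs (fun sq _ h => hval sq h) hx₁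

end Sys

end Groth.Agent.RZExt
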