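import Groth.Agent.RZExt.Stages
import Groth.Agent.RZExt.Chart

/-!
# The local ring of a compatible system of points on the admissible blow-ups
-/

set_option autoImplicit false
set_option linter.style.haveILetI false

universe u

open CategoryTheory CategoryTheory.Limits AlgebraicGeometry TopologicalSpace

noncomputable section

namespace Groth.Agent.RZExt

variable {S : Scheme.{u}} {U : S.Opens}

/-- A compatible family of points of the blow-ups. -/
structure Sys (U : S.Opens) where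
  pt : ∀ I : Centre U, I.T
  compat : ∀ {I J : Centre U} (h : I ≤ J), Centre.trans h (pt J) = pt I

namespace Sys

variable (x : Sys U)

/-- Neighbourhoods of the points of the system. -/
structure Idx where
  stage : Centre U
  nhd : stage.T.Opens
  mem : x.pt stage ∈ nhd

variable {x}

instance : Preorder x.Idx where
  le i j := ∃ h : i.stage ≤ j.stage, j.nhd ≤ Centre.trans h ⁻¹ᵁ i.nhd
  le_refl i := ⟨le_rfl, by rw [Centre.trans_refl]; exact le_rfl⟩
  le_trans i j k := fun ⟨h, e⟩ ⟨h', e'⟩ => ⟨h.trans h', fun z hz => by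
    show Centre.trans (h.trans h') z ∈ i.nhd
    rw [← Centre.trans_comp h h', Scheme.Hom.comp_apply]
    exact e (e' hz)⟩

instance : IsDirectedOrder x.Idx := ⟨fun i j => by
  refine ⟨⟨i.stage.mul j.stage, Centre.trans (Centre.le_mul_left i.stage j.stage) ⁻¹ᵁ i.nhd ⊓
    Centre.trans (Centre.le_mul_right i.stage j.stage) ⁻¹ᵁ j.nhd, ?_, ?_⟩, ?_, ?_⟩
  · show Centre.trans _ _ ∈ i.nhd
    rw [x.compat]; exact i.mem
  · show Centre.trans _ _ ∈ j.nhd
    rw [x.compat]; exact j.mem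
  · exact ⟨Centre.le_mul_left _ _, inf_le_left⟩
  · exact ⟨Centre.le_mul_right _ _, inf_le_right⟩⟩

/-- The transition maps of functions. -/
def map (i j : x.Idx) (h : i ≤ j) : Γ(i.stage.T, i.nhd) →+* Γ(j.stage.T, j.nhd) :=
  ((Centre.trans h.1).appLE i.nhd j.nhd h.2).hom

instance : DirectedSystem (fun i : x.Idx => Γ(i.stage.T, i.nhd)) (map · · ·) where
  map_self i z := by
    obtain ⟨I, V, hV⟩ := i
    show ((Centre.trans _).appLE V V _).hom z = z
    have key : ∀ (k : I.T ⟶ I.T) (e : V ≤ k ⁻¹ᵁ V), k = 𝟙 I.T → (k.appLE V V e).hom z = z := by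
      rintro k e rfl
      show (I.T.presheaf.map (homOfLE e).op).hom z = z
      exact congr($(I.T.presheaf.map_id _) z)
    exact key _ _ (Centre.trans_refl I)
  map_map := fun {k j i} h h' z => by
    have key : ∀ (p : k.stage.T ⟶ i.stage.T) (e : k.nhd ≤ p ⁻¹ᵁ i.nhd),
        p = Centre.trans h'.1 ≫ Centre.trans h.1 →
        map j k h' (map i j h z) = (p.appLE i.nhd k.nhd e).hom z := by
      rintro p e rfl
      exact congr($(Scheme.Hom.appLE_comp_appLE (Centre.trans h'.1) (Centre.trans h.1) i.nhd j.nhd k.nhd h.2 h'.2) z)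
    exact key _ _ (Centre.trans_comp h.1 h'.1).symm

variable (x)

/-- The ring of germs. -/
abbrev R := DirectLimit (fun i : x.Idx => Γ(i.stage.T, i.nhd)) (map · · ·)

variable [hne : Nonempty (Centre U)]

instance : Nonempty x.Idx := ⟨⟨hne.some, ⊤, trivial⟩⟩

/-- The germ map. -/
def of (i : x.Idx) : Γ(i.stage.T, i.nhd) →+* x.R where
  toFun z := ⟦⟨i, z⟩⟧
  map_one' := (DirectLimit.one_def i).symm
  map_mul' z w := (DirectLimit.mul_def _ _ _).symm
  map_zero' := (DirectLimit.zero_def i).symm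
  map_add' z w := (DirectLimit.add_def _ _ _).symm

theorem of_map {i j : x.Idx} (h : i ≤ j) (z : Γ(i.stage.T, i.nhd)) : x.of j (map i j h z) = x.of i z :=
  Quotient.sound (s := _) (show ∃ k, ∃ hjk : j ≤ k, ∃ hik : i ≤ k,
      map j k hjk (map i j h z) = map i k hik z from
    ⟨j, le_rfl, h, DirectedSystem.map_self (f := fun i j h => ⇑(map i j h)) (map i j h z)⟩)

theorem exists_of (r : x.R) : ∃ i z, x.of i z = r := by
  obtain ⟨i, z, rfl⟩ := DirectLimit.exists_eq_mk _ r
  exact ⟨i, z, rfl⟩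

/-- Above any index, any two elements are germs on a common index. -/
theorem exists_of₂ (i₀ : x.Idx) (r s : x.R) : ∃ i, i₀ ≤ i ∧ ∃ z w, x.of i z = r ∧ x.of i w = s := by
  obtain ⟨i, z, w, rfl, rfl⟩ := DirectLimit.exists_eq_mk₂ _ r s
  obtain ⟨j, hij, h0j⟩ := exists_ge_ge i i₀
  exact ⟨j, h0j, map i j hij z, map i j hij w, x.of_map hij z, x.of_map hij w⟩

theorem of_eq_iff {i : x.Idx} {z w : Γ(i.stage.T, i.nhd)} :
    x.of i z = x.of i w ↔ ∃ j, ∃ h : i ≤ j, map i j h z = map i j h w := by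
  constructor
  · intro h
    obtain ⟨j, h1, h2, e⟩ := Quotient.eq.mp h
    exact ⟨j, h1, e⟩
  · rintro ⟨j, h, e⟩
    rw [← x.of_map h z, e, x.of_map h w]

/-- Shrinking an index. -/
abbrev shrink (i : x.Idx) (V : i.stage.T.Opens) (hV : x.pt i.stage ∈ V) : x.Idx := ⟨i.stage, V, hV⟩

theorem le_shrink (i : x.Idx) (V : i.stage.T.Opens) (hV : x.pt i.stage ∈ V) (h : V ≤ i.nhd) :
    i ≤ x.shrink i V hV :=
  ⟨le_rfl, show V ≤ Centre.trans (le_refl i.stage) ⁻¹ᵁ i.nhd by rw [Centre.trans_refl]; exact h⟩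

theorem map_shrink (i : x.Idx) (V : i.stage.T.Opens) (hV : x.pt i.stage ∈ V) (h : V ≤ i.nhd)
    (z : Γ(i.stage.T, i.nhd)) :
    map i (x.shrink i V hV) (x.le_shrink i V hV h) z = (i.stage.T.presheaf.map (homOfLE h).op).hom z := by
  have key : ∀ (k : i.stage.T ⟶ i.stage.T) (e : V ≤ k ⁻¹ᵁ i.nhd), k = 𝟙 _ →
      (k.appLE i.nhd V e).hom z = (i.stage.T.presheaf.map (homOfLE h).op).hom z := by
    rintro k e rfl
    rfl
  exact key _ _ (Centre.trans_refl _)

theorem of_shrink (i : x.Idx) (V : i.stage.T.Opens) (hV : x.pt i.stage ∈ V) (h : V ≤ i.nhd)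
    (z : Γ(i.stage.T, i.nhd)) :
    x.of (x.shrink i V hV) ((i.stage.T.presheaf.map (homOfLE h).op).hom z) = x.of i z := by
  rw [← x.map_shrink i V hV h z, x.of_map]

theorem mem_basicOpen_map {i j : x.Idx} (h : i ≤ j) (z : Γ(i.stage.T, i.nhd))
    (hz : x.pt j.stage ∈ j.stage.T.basicOpen (map i j h z)) : x.pt i.stage ∈ i.stage.T.basicOpen z := by
  rw [map, Scheme.Hom.appLE, CommRingCat.comp_apply, Scheme.basicOpen_res, ← Scheme.Hom.preimage_basicOpen] at hz
  have h1 : Centre.trans h.1 (x.pt j.stage) ∈ i.stage.T.basicOpen z := hz.2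
  rwa [x.compat] at h1

theorem isUnit_of_iff {i : x.Idx} {z : Γ(i.stage.T, i.nhd)} :
    IsUnit (x.of i z) ↔ x.pt i.stage ∈ i.stage.T.basicOpen z := by
  constructor
  · intro h
    obtain ⟨w, hw⟩ := h.exists_right_inv
    obtain ⟨j, w', rfl⟩ := x.exists_of w
    obtain ⟨k, hik, hjk⟩ := exists_ge_ge i j
    rw [← x.of_map hik z, ← x.of_map hjk w', ← map_mul, ← map_one (x.of k), x.of_eq_iff] at hw
    obtain ⟨l, hkl, e⟩ := hw
    rw [map_mul, map_one] at e
    refine x.mem_basicOpen_map hik z (x.mem_basicOpen_map hkl _ ?_)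
    rw [l.stage.T.basicOpen_of_isUnit (IsUnit.of_mul_eq_one _ e)]
    exact l.mem
  · intro h
    rw [← x.of_shrink i _ h (i.stage.T.basicOpen_le z) z]
    exact (RingedSpace.isUnit_res_basicOpen i.stage.T.toRingedSpace z).map _

instance : Nontrivial x.R := by
  refine nontrivial_of_ne 0 1 fun h => ?_
  let i : x.Idx := ⟨hne.some, ⊤, trivial⟩
  have h1 : IsUnit (x.of i 0) := by rw [map_zero, h]; exact isUnit_one
  rw [x.isUnit_of_iff, Scheme.basicOpen_zero] at h1
  exact h1

instance : IsLocalRing x.R := IsLocalRing.of_nonunits_add fun r s hr hs => by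
  obtain ⟨i, -, z, w, rfl, rfl⟩ := x.exists_of₂ ⟨hne.some, ⊤, trivial⟩ r s
  intro h
  rw [← map_add, x.isUnit_of_iff] at h
  rcases Scheme.basicOpen_add_le (X := i.stage.T) z w h with h | h
  · exact hr (x.isUnit_of_iff.2 h)
  · exact hs (x.isUnit_of_iff.2 h)

end Sys

end Groth.Agent.RZExt
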