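import Groth.Agent.BlowUpExist.Global
import Groth.Agent.BlowUpExist.Proper
import Groth.Agent.BlowUpLib.Basic
import Groth.Agent.QC.FTIdeal
import Groth.Agent.FlatModBC.StratFlat
import Groth.Agent.SpecSpLib.Limit
import Mathlib

/-!
# The system of admissible blow-ups with exceptional locus the complement of a quasi-compact open
-/

set_option autoImplicit false
set_option linter.style.haveILetI false

universe u

open CategoryTheory CategoryTheory.Limits AlgebraicGeometry TopologicalSpace Topology

noncomputable section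

namespace Groth.Agent.RZExt

variable {S : Scheme.{u}} (U : S.Opens)

/-- The centres: finite type ideals cutting out exactly the complement of `U`. -/
structure Centre where
  ideal : S.IdealSheafData
  ft : BlowUp.IsFiniteTypeIdeal ideal
  supp : (ideal.support : Set S) = (U : Set S)ᶜ

namespace Centre

variable {U}

/-- The product of two centres. -/
def mul (I J : Centre U) : Centre U where
  ideal := I.ideal * J.ideal
  ft V := by
    rw [Scheme.IdealSheafData.ideal_mul, Pi.mul_apply]
    exact (I.ft V).mul (J.ft V)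
  supp := by rw [Scheme.IdealSheafData.support_mul, Closeds.coe_sup, I.supp, J.supp, Set.union_self]

instance : Preorder (Centre U) where
  le I J := I.ideal ∣ J.ideal
  le_refl I := dvd_refl _
  le_trans _ _ _ h h' := h.trans h'

theorem le_mul_left (I J : Centre U) : I ≤ I.mul J := dvd_mul_right _ _

theorem le_mul_right (I J : Centre U) : J ≤ I.mul J := dvd_mul_left _ _

instance : IsDirectedOrder (Centre U) :=
  ⟨fun I J => ⟨I.mul J, le_mul_left I J, le_mul_right I J⟩⟩

/-- A chosen blow-up in a centre (opaque, so that it is never unfolded). -/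
noncomputable def modelData (I : Centre U) :
    {p : (T : Scheme.{u}) × (T ⟶ S) // BlowUp.IsBlowUp p.2 I.ideal} :=
  ⟨⟨_, (BlowUpExist.exists_isBlowUp S I.ideal).choose_spec.choose⟩,
    (BlowUpExist.exists_isBlowUp S I.ideal).choose_spec.choose_spec⟩

/-- The chosen blow-up. -/
noncomputable opaque model (I : Centre U) :
    {p : (T : Scheme.{u}) × (T ⟶ S) // BlowUp.IsBlowUp p.2 I.ideal} := modelData I

/-- The blow-up in a centre. -/
def T (I : Centre U) : Scheme.{u} := (model I).1.1

/-- Its structure map. -/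
def b (I : Centre U) : I.T ⟶ S := (model I).1.2

theorem isBlowUp (I : Centre U) : BlowUp.IsBlowUp I.b I.ideal := (model I).2

instance (I : Centre U) : IsProper I.b := BlowUpExist.isProper_of_isFiniteType I.isBlowUp I.ft

instance (I : Centre U) [CompactSpace S] : CompactSpace I.T := QuasiCompact.compactSpace_of_compactSpace I.b

instance (I : Centre U) [QuasiSeparatedSpace S] : QuasiSeparatedSpace I.T :=
  quasiSeparatedSpace_of_quasiSeparated I.b

theorem cartier_comap {I J : Centre U} (h : I ≤ J) : BlowUp.IsEffCartierIdeal (I.ideal.comap J.b) := by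
  obtain ⟨L, hL⟩ := h
  have := J.isBlowUp.1
  rw [hL, BlowUpLib.comap_mul] at this
  exact BlowUpLib.cartier_of_mul_left this

/-- A chosen transition map (opaque, so that it is never unfolded). -/
noncomputable def transDataDef {I J : Centre U} (h : I ≤ J) : {k : J.T ⟶ I.T // k ≫ I.b = J.b} :=
  ⟨_, (I.isBlowUp.2 J.T J.b (cartier_comap h)).choose_spec.1⟩

noncomputable opaque transData {I J : Centre U} (h : I ≤ J) : {k : J.T ⟶ I.T // k ≫ I.b = J.b} :=
  transDataDef h

/-- The transition maps. -/
def trans {I J : Centre U} (h : I ≤ J) : J.T ⟶ I.T := (transData h).1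

@[reassoc (attr := simp)]
theorem trans_b {I J : Centre U} (h : I ≤ J) : trans h ≫ I.b = J.b := (transData h).2

theorem eq_trans {I J : Centre U} (h : I ≤ J) (k : J.T ⟶ I.T) (hk : k ≫ I.b = J.b) : k = trans h :=
  (I.isBlowUp.2 J.T J.b (cartier_comap h)).unique hk (trans_b h)

theorem trans_refl (I : Centre U) : trans (le_refl I) = 𝟙 I.T := (eq_trans _ _ (Category.id_comp _)).symm

theorem trans_comp {I J K : Centre U} (h : I ≤ J) (h' : J ≤ K) : trans h' ≫ trans h = trans (h.trans h') :=
  eq_trans _ _ (by simp)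

theorem b_trans_apply {I J : Centre U} (h : I ≤ J) (x : J.T) : I.b (trans h x) = J.b x := by
  rw [← Scheme.Hom.comp_apply, trans_b]

theorem mem_support_comap_iff (I J : Centre U) (x : J.T) : x ∈ (I.ideal.comap J.b).support ↔ J.b x ∉ U := by
  rw [← SetLike.mem_coe, Scheme.IdealSheafData.support_comap, Closeds.coe_preimage, I.supp]
  rfl

/-- Over a chart where the exceptional ideal is generated by a nonzerodivisor, its basic open is the part over `U`. -/
theorem basicOpen_eq {I J : Centre U} {G : J.T.affineOpens} {e : Γ(J.T, G.1)}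
    (he : (I.ideal.comap J.b).ideal G = Ideal.span {e}) : J.T.basicOpen e = G.1 ⊓ J.b ⁻¹ᵁ U := by
  ext x
  constructor
  · intro hx
    refine ⟨J.T.basicOpen_le e hx, ?_⟩
    have h := (BlowUpLib.mem_basicOpen_of_notMem_support he (J.T.basicOpen_le e hx)).2 hx
    exact not_not.1 fun hn => h ((mem_support_comap_iff I J x).2 hn)
  · rintro ⟨hxG, hxU⟩
    exact (BlowUpLib.mem_basicOpen_of_notMem_support he hxG).1 fun h => (mem_support_comap_iff I J x).1 h hxU

end Centre

theorem nonempty_centre [CompactSpace S] [QuasiSeparatedSpace S] (hU : IsCompact (U : Set S)) :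
    Nonempty (Centre U) := by
  obtain ⟨I, -, -, -, -, -, -, hft, hsupp⟩ := QC.exists_ftIdeal U hU
  exact ⟨⟨I, hft, hsupp⟩⟩

variable {U}

/-- A finitely generated ideal on an affine open containing a power of a centre extends to a centre up to product. -/
theorem exists_centre [CompactSpace S] [QuasiSeparatedSpace S] (I : Centre U) (W : S.affineOpens) (N : ℕ)
    (c : Ideal Γ(S, W.1)) (hc : c.FG) (hle : I.ideal.ideal W ^ N ≤ c) :
    ∃ J : Centre U, I ≤ J ∧ ∃ L : S.IdealSheafData, L.ideal W = c ∧ J.ideal = I.ideal * L := by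
  obtain ⟨L₀, hL₀, hL₀W⟩ := FlatModBC.exists_fg_extend W c hc
  obtain ⟨L, hL, hft, hsupp⟩ : ∃ L : S.IdealSheafData, L.ideal W = c ∧ BlowUp.IsFiniteTypeIdeal L ∧
      (L.support : Set S) ⊆ (U : Set S)ᶜ := by
    refine ⟨L₀ ⊔ I.ideal ^ (N + 1), ?_, fun V => ?_, ?_⟩
    · rw [Scheme.IdealSheafData.ideal_sup, Pi.sup_apply, Scheme.IdealSheafData.ideal_pow, Pi.pow_apply, hL₀W,
        sup_eq_left]
      exact (Ideal.pow_le_pow_right (Nat.le_succ N)).trans hle
    · rw [Scheme.IdealSheafData.ideal_sup, Pi.sup_apply, Scheme.IdealSheafData.ideal_pow, Pi.pow_apply]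
      exact Submodule.FG.sup (hL₀ V) (Ideal.FG.pow (I.ft V))
    · have h1 := Scheme.IdealSheafData.support_antitone
        (le_sup_right : I.ideal ^ (N + 1) ≤ L₀ ⊔ I.ideal ^ (N + 1))
      rw [Scheme.IdealSheafData.support_pow_succ, ← SetLike.coe_subset_coe, I.supp] at h1
      exact h1
  refine ⟨⟨I.ideal * L, fun V => ?_, ?_⟩, dvd_mul_right _ _, L, hL, rfl⟩
  · rw [Scheme.IdealSheafData.ideal_mul, Pi.mul_apply]
    exact (I.ft V).mul (hft V)
  · rw [Scheme.IdealSheafData.support_mul, Closeds.coe_sup, I.supp]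
    exact Set.union_eq_left.2 hsupp

/-- A compatible family of points in closed subsets stable under the transition maps. -/
theorem exists_system [CompactSpace S] [QuasiSeparatedSpace S] (hU : IsCompact (U : Set S))
    (B : ∀ I : Centre U, Set I.T) (hB : ∀ I, IsOpen[constructibleTopology I.T] (B I)ᶜ) (hne : ∀ I, (B I).Nonempty)
    (hmap : ∀ {I J : Centre U} (h : I ≤ J), Set.MapsTo (fun x => Centre.trans h x) (B J) (B I)) :
    ∃ x : ∀ I : Centre U, I.T, (∀ I, x I ∈ B I) ∧ ∀ {I J : Centre U} (h : I ≤ J), Centre.trans h (x J) = x I := by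
  haveI := nonempty_centre U hU
  let F : (Centre U)ᵒᵈ ⥤ TopCat.{u} :=
    { obj := fun I => TopCat.of (OrderDual.ofDual I).T
      map := fun {I J} a => TopCat.ofHom ⟨fun z => Centre.trans (OrderDual.ofDual_le_ofDual.2 (leOfHom a)) z,
        (Centre.trans (OrderDual.ofDual_le_ofDual.2 (leOfHom a))).continuous⟩
      map_id := fun I => by ext z; exact congrArg (fun k : (OrderDual.ofDual I).T ⟶ (OrderDual.ofDual I).T => k z) (Centre.trans_refl _)
      map_comp := fun {I J K} a a' => by
        ext z
        refine (congrArg (fun k : (OrderDual.ofDual I).T ⟶ (OrderDual.ofDual K).T => k z) (Centre.trans_comp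
          (OrderDual.ofDual_le_ofDual.2 (leOfHom a')) (OrderDual.ofDual_le_ofDual.2 (leOfHom a)))).symm.trans ?_
        exact Scheme.Hom.comp_apply _ _ z }
  have hF : ∀ I, SpectralSpace (F.obj I) := fun I => show SpectralSpace (OrderDual.ofDual I).T from {}
  have hFm : ∀ {I J : (Centre U)ᵒᵈ} (a : I ⟶ J), IsSpectralMap (F.map a : F.obj I → F.obj J) := fun {I J} a => by
    haveI : QuasiCompact (Centre.trans (OrderDual.ofDual_le_ofDual.2 (leOfHom a))) := by
      haveI : QuasiCompact (Centre.trans (OrderDual.ofDual_le_ofDual.2 (leOfHom a)) ≫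
          (OrderDual.ofDual J).b) := by rw [Centre.trans_b]; infer_instance
      exact QuasiCompact.of_comp _ (OrderDual.ofDual J).b
    exact (Centre.trans (OrderDual.ofDual_le_ofDual.2 (leOfHom a))).isSpectralMap
  obtain ⟨p, hp⟩ := SpecSpLib.exists_point hF hFm (TopCat.limitConeIsLimit F) (fun I => B (OrderDual.ofDual I))
    (fun I => hne _) (fun I => hB _)
    (fun a => hmap (OrderDual.ofDual_le_ofDual.2 (leOfHom a)))
  refine ⟨fun I => (TopCat.limitCone F).π.app (OrderDual.toDual I) p, fun I => hp (OrderDual.toDual I),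
    fun {I J} h => ?_⟩
  exact congrArg (fun k : (TopCat.limitCone F).pt ⟶ F.obj (OrderDual.toDual I) => k p)
    ((TopCat.limitCone F).w (homOfLE (OrderDual.toDual_le_toDual.2 h)))

end Groth.Agent.RZExt
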